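import Cfsg.Agent.SFT45.Main

/-!
No minimal counterexample: the solvable signalizer functor theorem for values of odd order.
-/

set_option autoImplicit false
set_option linter.style.haveILetI false
set_option maxHeartbeats 400000

universe u

namespace Cfsg.Agent.SFT45

open Subgroup Coprime Signal38
open scoped commutatorElement IsMulCommutative Pointwise

variable {G : Type u} [Group G] [Finite G] {p : ℕ} [hp : Fact p.Prime] {A : Subgroup G}
  {θ : G → Subgroup G}

namespace IsMinBad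

variable (hm : IsMinBad p A θ)
include hm

/-- The normalizer member of `⁅O_r(M), a⁆` contains `θ a` and every `⁅O_t(M), a⁆`. -/
theorem normalizer_wComm_ge {a : G} (ha : a ∈ A) (ha1 : a ≠ 1) {M : Subgroup G}
    (hM : IsMaxAbove p A θ a M) {r : ℕ} [Fact r.Prime] {N : Subgroup G}
    (hNmax : ∀ U ∈ signalizerFamily p A θ, U ≤ normalizer (wComm r M a : Set G) → U ≤ N) :
    θ a ≤ N ∧ ∀ s : ℕ, s.Prime → wComm s M a ≤ N := by
  obtain ⟨hWle, -, -⟩ := hm.wComm_mem ha (r := r) hM.1
  refine ⟨hNmax _ (theta_mem_family hm.func ha ha1)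
    (le_normalizer_commutator (hM.2.1.trans le_normalizer_pCoreOf)
      (le_trans ?_ (centralizer_le_normalizer _))), fun s hs => ?_⟩
  · rw [centralizer_zpowers]
    exact hm.func.1.1 a ha ha1
  · haveI := Fact.mk hs
    obtain ⟨hsle, hsfam, -⟩ := hm.wComm_mem ha (r := s) hM.1
    refine hNmax _ hsfam ?_
    rcases eq_or_ne s r with rfl | hsr
    · exact le_normalizer
    · refine le_trans ?_ (centralizer_le_normalizer _)
      refine hsle.trans (le_trans ?_ (centralizer_le hWle))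
      exact le_centralizer_of_coprime (pCoreOf_le.trans le_normalizer_pCoreOf)
        (pCoreOf_le.trans le_normalizer_pCoreOf)
        (coprime_of_isPGroup hsr isPGroup_pCoreOf isPGroup_pCoreOf)

/-- For each `a` some member contains `θ a` and `K_q`. -/
theorem exists_good {a : G} (ha : a ∈ A) (ha1 : a ≠ 1) (q : ℕ) [hq : Fact q.Prime] :
    ∃ H ∈ signalizerFamily p A θ, θ a ≤ H ∧ bigK p q A θ ≤ H := by
  obtain ⟨M, hM, hbest⟩ := hm.exists_best ha ha1
  by_cases hother : ∃ s : ℕ, s.Prime ∧ s ≠ q ∧ wComm s M a ≠ ⊥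
  · obtain ⟨s, hs, hsq, hsne⟩ := hother
    haveI := Fact.mk hs
    obtain ⟨N, hN, -, hNmax⟩ := hm.exists_normalizer_member (hm.wComm_mem ha (r := s) hM.1).2.1 hsne
    exact ⟨N, hN, (hm.normalizer_wComm_ge ha ha1 hM hNmax).1, hNmax _ hm.bigK_mem_family.1
      ((hm.bigK_le_centralizer hsq.symm).trans
        ((centralizer_le (hm.wComm_le_bigK ha ha1 hM.1 hM.2.1)).trans
          (centralizer_le_normalizer _)))⟩
  push Not at hother
  have hne : wComm q M a ≠ ⊥ := by
    obtain ⟨r, hr, hne⟩ := hm.exists_wComm_ne_bot ha ha1 hM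
    rcases eq_or_ne r q with rfl | hrq
    · exact hne
    · exact absurd (hother r hr hrq) hne
  obtain ⟨N, hN, -, hNmax⟩ := hm.exists_normalizer_member (hm.wComm_mem ha (r := q) hM.1).2.1 hne
  obtain ⟨haN, hWN⟩ := hm.normalizer_wComm_ge ha ha1 hM hNmax
  obtain ⟨M', hNM', hM'⟩ := hm.exists_maxAbove_ge (a := a) hN haN
  have heq := hbest M' hM' fun s hs => (hWN s hs).trans hNM'
  refine ⟨M', hM'.1, hM'.2.1, ?_⟩
  have hW' : wComm q M' a ≤ pCoreOf q M' := (hm.wComm_mem ha hM'.1).1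
  have hN' : ∀ U ∈ signalizerFamily p A θ, U ≤ normalizer (wComm q M' a : Set G) → U ≤ M' :=
    fun U hU hUn => (hNmax U hU ((heq q hq.out) ▸ hUn)).trans hNM'
  by_cases hR : ∃ s : ℕ, s.Prime ∧ s ≠ q ∧ pCoreOf s M' ≠ ⊥
  · obtain ⟨s, hs, hsq, hsne⟩ := hR
    haveI := Fact.mk hs
    refine hm.bigK_le_of_core ha ha1 hM' hsq hsne ?_ hW' ((heq q hq.out).symm ▸ hne)
      (hm.wComm_mem ha hM'.1).2.1 (hm.wComm_le_bigK ha ha1 hM'.1 hM'.2.1) hN'
    rw [← centralizer_zpowers, ← commutator_eq_bot_iff_le_centralizer]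
    exact (heq s hs).trans (hother s hs hsq)
  · push Not at hR
    exact hm.bigK_le_of_fitting hM' hR fun h => hne (by
      rw [← heq q hq.out, ← le_bot_iff]
      exact hW'.trans h.le)

theorem false : False := by
  obtain ⟨a, ha, ha1, -⟩ := hm.exists_ne_bot
  obtain ⟨M, -, hM⟩ := hm.exists_maxAbove_ge (theta_mem_family hm.func ha ha1) (le_refl (θ a))
  obtain ⟨q, hq, hne⟩ := hm.exists_wComm_ne_bot ha ha1 hM
  haveI := Fact.mk hq
  haveI := hm.elem.1
  set K := bigK p q A θ with hK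
  have hKne : K ≠ ⊥ := fun h =>
    hne (le_bot_iff.mp ((hm.wComm_le_bigK ha ha1 hM.1 hM.2.1).trans h.le))
  obtain ⟨hKfam, -⟩ := hm.bigK_mem_family (q := q)
  choose H hH using fun b : {b : G // b ∈ A ∧ b ≠ 1} => hm.exists_good b.2.1 b.2.2 q
  have hKJ : ∀ b : {b : G // b ∈ A ∧ b ≠ 1}, K ≤ pCoreOf q (H b) := fun b => hm.bigK_le_pCoreOf (hH b).1 (hH b).2.2
  have hθJ : ∀ b : {b : G // b ∈ A ∧ b ≠ 1}, θ (b : G) ≤ normalizer (pCoreOf q (H b) : Set G) := fun b =>
    (hH b).2.1.trans le_normalizer_pCoreOf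
  have hJK : ∀ b : {b : G // b ∈ A ∧ b ≠ 1}, ⁅pCoreOf q (H b), zpowers (b : G)⁆ ≤ K := fun b => hm.commutator_le_bigK
    (family_of_le' (hH b).1 pCoreOf_le
      ((member_normalizer (hH b).1).trans normalizer_le_normalizer_pCoreOf))
    isPGroup_pCoreOf b.2.1 b.2.2 (hθJ b)
  refine hm.false_of_normalized hKfam hKne fun c hc hc1 => hm.theta_le hc hc1 fun B hB _ => ?_
  set K' := (⨆ b : {b : G // b ∈ B ∧ b ≠ 1},
    ⁅pCoreOf q (H ⟨b, hB.1 b.2.1, b.2.2⟩), zpowers (b : G)⁆) ⊔ delta q θ B with hK'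
  have hnorm : signalizerInf B θ ≤ normalizer (K' : Set G) := by
    refine Coprime.le_normalizer_sup (le_normalizer_iSup fun b => ?_)
      hm.signalizerInf_le_normalizer_delta
    refine le_normalizer_commutator ((signalizerInf_le b.2.1 b.2.2).trans
      (hθJ ⟨b, hB.1 b.2.1, b.2.2⟩)) (le_trans ?_ (centralizer_le_normalizer _))
    rw [centralizer_zpowers]
    exact (signalizerInf_le b.2.1 b.2.2).trans (hm.func.1.1 _ (hB.1 b.2.1) b.2.2)
  suffices hKK : K = K' from hnorm.trans (le_of_eq (by rw [← hKK, hK]))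
  refine le_antisymm ?_ (sup_le (iSup_le fun b => hJK ⟨b, hB.1 b.2.1, b.2.2⟩)
    (le_iSup (fun B : {B : Subgroup G // IsHyp p A B} => delta q θ (B : Subgroup G)) ⟨B, hB⟩))
  have hall : ∀ n, ∀ D : Subgroup G, D ≤ B → Nat.card B - Nat.card D = n →
      K ⊓ centralizer (D : Set G) ≤ K' := by
    intro n
    induction n using Nat.strong_induction_on with
    | _ n IH =>
    intro D hD hn
    rcases eq_or_ne D B with rfl | hDne
    · refine le_trans (le_iInf fun b => ?_) le_sup_right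
      obtain ⟨b, hb, hb1⟩ := b
      set J := pCoreOf q (H ⟨b, hB.1 hb, hb1⟩) with hJ
      have hnJ : θ b ≤ normalizer (J ⊓ θ b : Set G) := Coprime.le_normalizer_inf
        (hθJ ⟨b, hB.1 hb, hb1⟩) le_normalizer
      refine le_trans (le_inf (inf_le_left.trans (hKJ ⟨b, hB.1 hb, hb1⟩))
        ((inf_centralizer_le_signalizerInf hKfam hB.1).trans (signalizerInf_le hb hb1))) ?_
      exact le_pCoreOf inf_le_right hnJ (isPGroup_pCoreOf.to_le inf_le_left)
    obtain ⟨b, hb, hbD⟩ := SetLike.exists_of_lt (lt_of_le_of_ne hD hDne)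
    have hb1 : b ≠ 1 := fun h => hbD (h ▸ one_mem D)
    set D' := D ⊔ zpowers b with hD'
    have hD'B : D' ≤ B := sup_le hD (zpowers_le.mpr hb)
    have hlt : Nat.card D < Nat.card D' := lt_of_le_of_ne (card_le_of_le le_sup_left) fun h =>
      hbD ((eq_of_le_of_card_ge (le_sup_left : D ≤ D') h.ge).ge (mem_sup_right (mem_zpowers b)))
    set Y := K ⊓ centralizer (D : Set G) with hY
    have hAY : A ≤ normalizer (Y : Set G) := Coprime.le_normalizer_inf (member_normalizer hKfam)
      (le_normalizer_centralizer_of_le hm.elem (hD.trans hB.1))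
    have hzA : zpowers b ≤ A := zpowers_le.mpr (hB.1 hb)
    rw [← Coprime.commutator_sup_centralizer (zpowers b) Y (hzA.trans hAY)
      (((hm.coprime hKfam).coprime_dvd_left (card_dvd_of_le hzA)).coprime_dvd_right
        (card_dvd_of_le inf_le_left)) (Or.inl (Group.isSolvable_of_comm fun x y => mul_comm' x y))]
    refine sup_le ?_ ?_
    · refine le_trans ?_ (le_trans (le_iSup (fun b : {b : G // b ∈ B ∧ b ≠ 1} =>
        ⁅pCoreOf q (H ⟨b, hB.1 b.2.1, b.2.2⟩), zpowers (b : G)⁆) ⟨b, hb, hb1⟩) le_sup_left)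
      exact commutator_mono (inf_le_left.trans (hKJ _)) le_rfl
    · refine le_trans ?_ (IH _ ?_ D' hD'B rfl)
      · refine le_inf (inf_le_left.trans inf_le_left) ?_
        rw [le_centralizer_iff]
        exact sup_le (le_centralizer_iff.mp (inf_le_left.trans inf_le_right))
          (le_centralizer_iff.mp inf_le_right)
      · have := card_le_of_le hD'B
        omega
  refine le_trans (le_inf le_rfl ?_) (hall _ ⊥ bot_le rfl)
  exact fun x _ => mem_centralizer_iff.mpr fun y hy => by simp [mem_bot.mp hy]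

end IsMinBad

/-- The solvable signalizer functor theorem when every `θ a` has odd order: some member contains
every `θ a`. -/
theorem completable_of_odd_aux : ∀ (n : ℕ) (H : Type u) [Group H] [Finite H] (B : Subgroup H)
    (σ : H → Subgroup H), mass B σ = n → IsElementaryAbelian p B → p ^ 3 ≤ Nat.card B →
    IsSolvableSignalizerFunctor p B σ → (∀ b ∈ B, b ≠ 1 → Odd (Nat.card (σ b))) →
    Completable p B σ := by
  intro n
  induction n using Nat.strong_induction_on with
  | _ n IH =>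
  intro H _ _ B σ hn hB hB3 hσ hodd
  by_contra hbad
  exact IsMinBad.false (⟨hB, hB3, hσ, hodd, hbad,
    fun K _ _ C τ hC hC3 hτ hτo hlt => IH _ (hn ▸ hlt) K C τ rfl hC hC3 hτ hτo⟩ :
    IsMinBad p B σ)

theorem completable_of_odd (hA : IsElementaryAbelian p A) (hA3 : p ^ 3 ≤ Nat.card A)
    (hθ : IsSolvableSignalizerFunctor p A θ) (hodd : ∀ a ∈ A, a ≠ 1 → Odd (Nat.card (θ a))) :
    Completable p A θ :=
  completable_of_odd_aux _ G A θ rfl hA hA3 hθ hodd

theorem isComplete_of_odd (hA : IsElementaryAbelian p A) (hA3 : p ^ 3 ≤ Nat.card A)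
    (hθ : IsSolvableSignalizerFunctor p A θ) (hodd : ∀ a ∈ A, a ≠ 1 → Odd (Nat.card (θ a))) :
    IsCompleteSignalizerFunctor p A θ :=
  isComplete_of_completable hθ (completable_of_odd hA hA3 hθ hodd)

/-- The solvable signalizer functor theorem at the prime `2`. -/
theorem isComplete_two {G : Type u} [Group G] [Finite G] {A : Subgroup G} {θ : G → Subgroup G}
    (hA : IsElementaryAbelian 2 A) (hA3 : 2 ^ 3 ≤ Nat.card A)
    (hθ : IsSolvableSignalizerFunctor 2 A θ) : IsCompleteSignalizerFunctor 2 A θ :=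
  haveI := Fact.mk Nat.prime_two
  isComplete_of_odd hA hA3 hθ fun a ha ha1 => by
    rw [← Nat.not_even_iff_odd, even_iff_two_dvd]
    exact hθ.1.2.1 a ha ha1

end Cfsg.Agent.SFT45
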