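import Cfsg.Agent.SFT45.Tools
import Cfsg.Agent.Signal38.Transitivity

/-!
The induction for the solvable signalizer functor theorem: minimal counterexamples, subfunctors,
quotients and normalizers inside the family.
-/

set_option autoImplicit false
set_option linter.style.haveILetI false

universe u

namespace Cfsg.Agent.SFT45

open Subgroup Coprime Signal38
open scoped commutatorElement IsMulCommutative Pointwise

variable {G : Type u} [Group G]

/-- The measure for the induction. -/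
noncomputable def mass (A : Subgroup G) (θ : G → Subgroup G) : ℕ :=
  ∑ᶠ a : {a : A // a ≠ 1}, Nat.card (θ (a : G))

/-- Some member of the family contains every `θ a`. -/
def Completable (p : ℕ) (A : Subgroup G) (θ : G → Subgroup G) : Prop :=
  ∃ W ∈ signalizerFamily p A θ, ∀ a ∈ A, a ≠ 1 → θ a ≤ W

theorem isComplete_of_completable {p : ℕ} {A : Subgroup G} {θ : G → Subgroup G}
    (hθ : IsSolvableSignalizerFunctor p A θ) (h : Completable p A θ) :
    IsCompleteSignalizerFunctor p A θ := by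
  obtain ⟨W, hW, hle⟩ := h
  exact ⟨hθ.1, W, hW.2.2.1, hW.2.1, fun a ha ha1 =>
    le_antisymm (hW.2.2.2 a ha ha1) (le_inf (hle a ha ha1) (hθ.1.1 a ha ha1))⟩

/-- A minimal counterexample (all values of odd order). -/
structure IsMinBad (p : ℕ) (A : Subgroup G) (θ : G → Subgroup G) : Prop where
  elem : IsElementaryAbelian p A
  rank : p ^ 3 ≤ Nat.card A
  func : IsSolvableSignalizerFunctor p A θ
  oddVal : ∀ a ∈ A, a ≠ 1 → Odd (Nat.card (θ a))
  bad : ¬ Completable p A θ
  minimal : ∀ (H : Type u) [Group H] [Finite H] (B : Subgroup H) (σ : H → Subgroup H),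
    IsElementaryAbelian p B → p ^ 3 ≤ Nat.card B → IsSolvableSignalizerFunctor p B σ →
    (∀ b ∈ B, b ≠ 1 → Odd (Nat.card (σ b))) → mass B σ < mass A θ → Completable p B σ

/-- `B` is a subgroup of index at most `p` in `A`. -/
def IsHyp (p : ℕ) (A B : Subgroup G) : Prop := B ≤ A ∧ Nat.card A ≤ p * Nat.card B

variable [Finite G] {p : ℕ} [hp : Fact p.Prime] {A : Subgroup G} {θ : G → Subgroup G}

section Hyperplanes

variable (hA : IsElementaryAbelian p A) (hA3 : p ^ 3 ≤ Nat.card A)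

include hA in
theorem comm_of_mem {x y : G} (hx : x ∈ A) (hy : y ∈ A) : x * y = y * x :=
  congrArg Subtype.val (hA.1.is_comm.comm (⟨x, hx⟩ : A) ⟨y, hy⟩)

omit [Finite G] hp in
include hA in
theorem le_centralizer_singleton {a : G} (ha : a ∈ A) : A ≤ centralizer ({a} : Set G) := fun x hx =>
  mem_centralizer_singleton_iff.mpr (congrArg Subtype.val (hA.1.is_comm.comm (⟨x, hx⟩ : A) ⟨a, ha⟩))

include hA in
theorem le_normalizer_centralizer_of_le {B : Subgroup G} (hB : B ≤ A) :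
    A ≤ normalizer (centralizer (B : Set G) : Set G) :=
  Coprime.le_normalizer_centralizer ((le_centralizer_self_of_elementary hA).trans
    ((centralizer_le hB).trans (centralizer_le_normalizer _)))

include hA3 in
theorem IsHyp.sq_le {B : Subgroup G} (hB : IsHyp p A B) : p ^ 2 ≤ Nat.card B := by
  have h := hA3.trans hB.2
  rw [pow_succ, mul_comm] at h
  exact Nat.le_of_mul_le_mul_left h hp.out.pos

include hA hA3 in
theorem IsHyp.not_isCyclic {B : Subgroup G} (hB : IsHyp p A B) : ¬ IsCyclic B := by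
  intro hc
  obtain ⟨g, hg⟩ := hc.exists_generator
  have h1 : Nat.card B ∣ p := by
    rw [← orderOf_eq_card_of_forall_mem_zpowers hg]
    exact orderOf_dvd_of_pow_eq_one (Subtype.ext (by simpa using hA.2 g (hB.1 g.2)))
  have h2 := (hB.sq_le hA3).trans (Nat.le_of_dvd hp.out.pos h1)
  nlinarith [hp.out.two_le]

include hA hA3 in
theorem exists_mem_inf {B B' : Subgroup G} (hB : IsHyp p A B) (hB' : IsHyp p A B') :
    ∃ f, f ∈ B ∧ f ∈ B' ∧ f ≠ 1 := by
  by_contra h
  push Not at h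
  have hbot : B ⊓ B' = ⊥ := eq_bot_iff.mpr fun x hx => mem_bot.mpr (h x hx.1 hx.2)
  have hinj := Subgroup.mul_injective_of_disjoint (disjoint_iff.mpr hbot)
  let f : B × B' → A := fun x => ⟨(x.1 : G) * x.2, mul_mem (hB.1 x.1.2) (hB'.1 x.2.2)⟩
  have hle : Nat.card B * Nat.card B' ≤ Nat.card A := by
    rw [← Nat.card_prod]
    exact Nat.card_le_card_of_injective f fun x y e => hinj (congrArg Subtype.val e)
  have h1 : Nat.card A * Nat.card A ≤ p * p * Nat.card A :=
    (Nat.mul_le_mul hB.2 hB'.2).trans (by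
      calc p * Nat.card B * (p * Nat.card B') = p * p * (Nat.card B * Nat.card B') := by ring
        _ ≤ p * p * Nat.card A := Nat.mul_le_mul_left _ hle)
  have h2 : p ^ 3 ≤ p * p := hA3.trans (Nat.le_of_mul_le_mul_right h1 Nat.card_pos)
  nlinarith [hp.out.two_le, h2, pow_succ p 2, pow_two p]

include hA in
theorem le_of_forall_hyp {V H : Subgroup G} (hV : A ≤ normalizer (V : Set G))
    (hcop : p.Coprime (Nat.card V))
    (h : ∀ B : Subgroup G, IsHyp p A B → V ⊓ centralizer (B : Set G) ≤ H) : V ≤ H := by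
  by_contra hne
  obtain ⟨B, hBA, hc, hB⟩ := exists_hyperplane hA hV hcop hne
  exact hB (h B ⟨hBA, hc⟩)

include hA in
theorem le_of_forall_hyp_mem {V H : Subgroup G} {a : G} (ha : a ∈ A)
    (hV : A ≤ normalizer (V : Set G)) (hcop : p.Coprime (Nat.card V))
    (hVa : V ≤ centralizer ({a} : Set G))
    (h : ∀ B : Subgroup G, IsHyp p A B → a ∈ B → V ⊓ centralizer (B : Set G) ≤ H) : V ≤ H := by
  refine le_of_forall_hyp hA hV hcop fun B hB => ?_
  refine le_trans ?_ (h (B ⊔ zpowers a) ⟨sup_le hB.1 (zpowers_le.mpr ha),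
    hB.2.trans (Nat.mul_le_mul_left _ (card_le_of_le le_sup_left))⟩ (mem_sup_right (mem_zpowers a)))
  refine le_inf inf_le_left (le_centralizer_iff.mpr (sup_le (le_centralizer_iff.mp inf_le_right) ?_))
  rw [zpowers_le_centralizer_iff]
  exact inf_le_left.trans hVa

end Hyperplanes

theorem signalizerInf_le_centralizer (hθ : IsSignalizerFunctor p A θ) {B : Subgroup G} (hB : B ≤ A) :
    signalizerInf B θ ≤ centralizer (B : Set G) := fun x hx => mem_centralizer_iff.mpr fun b hb => by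
  rcases eq_or_ne b 1 with rfl | hb1
  · simp
  · exact (mem_centralizer_singleton_iff.mp
      (hθ.1 b (hB hb) hb1 (mem_signalizerInf.mp hx b hb hb1))).symm

theorem inf_centralizer_le_signalizerInf {U B : Subgroup G} (hU : U ∈ signalizerFamily p A θ)
    (hB : B ≤ A) : U ⊓ centralizer (B : Set G) ≤ signalizerInf B θ := fun _ hx =>
  mem_signalizerInf.mpr fun b hb hb1 => hU.2.2.2 b (hB hb) hb1 (mem_inf.mpr ⟨(mem_inf.mp hx).1,
    mem_centralizer_singleton_iff.mpr (mem_centralizer_iff.mp (mem_inf.mp hx).2 b hb).symm⟩)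

theorem member_normalizer {U : Subgroup G} (hU : U ∈ signalizerFamily p A θ) :
    A ≤ normalizer (U : Set G) := le_normalizer_of_invariant hU.2.2.1

theorem family_of_le' {U V : Subgroup G} (hU : U ∈ signalizerFamily p A θ) (h : V ≤ U)
    (hV : A ≤ normalizer (V : Set G)) : V ∈ signalizerFamily p A θ :=
  family_of_le hU h fun _ hb _ hu => conj_mem_of_mem_normalizer (hV hb) hu

namespace IsMinBad

variable (hm : IsMinBad p A θ)
include hm

theorem coprime {U : Subgroup G} (hU : U ∈ signalizerFamily p A θ) :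
    (Nat.card A).Coprime (Nat.card U) := elementary_coprime_family hm.elem hU

theorem member_le {U H : Subgroup G} (hU : U ∈ signalizerFamily p A θ)
    (h : ∀ a ∈ A, a ≠ 1 → U ⊓ centralizer ({a} : Set G) ≤ H) : U ≤ H := by
  refine le_of_forall_hyp hm.elem (member_normalizer hU) (family_coprime hU) fun B hB => ?_
  obtain ⟨f, hf, -, hf1⟩ := exists_mem_inf hm.elem hm.rank hB hB
  exact le_trans (inf_le_inf_left _ (centralizer_le (Set.singleton_subset_iff.mpr hf)))
    (h f (hB.1 hf) hf1)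

theorem theta_le {H : Subgroup G} {a : G} (ha : a ∈ A) (ha1 : a ≠ 1)
    (h : ∀ B : Subgroup G, IsHyp p A B → a ∈ B → signalizerInf B θ ≤ H) : θ a ≤ H := by
  have hU := theta_mem_family hm.func ha ha1
  exact le_of_forall_hyp_mem hm.elem ha (member_normalizer hU) (family_coprime hU)
    (hm.func.1.1 a ha ha1) fun B hB haB =>
      (inf_centralizer_le_signalizerInf hU hB.1).trans (h B hB haB)

theorem member_odd {U : Subgroup G} (hU : U ∈ signalizerFamily p A θ) : Odd (Nat.card U) := by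
  rw [← Nat.not_even_iff_odd, even_iff_two_dvd]
  intro h
  haveI := Fact.mk Nat.prime_two
  obtain ⟨S, hS⟩ := Coprime.exists_invariant_sylow A U (member_normalizer hU) (hm.coprime hU)
    (Or.inl (isSolvable_elementary hm.elem)) 2
  set P := (S : Subgroup U).map U.subtype with hP
  have hPU : P ∈ signalizerFamily p A θ := family_of_le' hU (map_subtype_le _) hS
  have hPne : P ≠ ⊥ := by
    rw [hP, Ne, map_eq_bot_iff_of_injective _ U.subtype_injective]
    exact S.ne_bot_of_dvd_card h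
  refine hPne (le_bot_iff.mp (hm.member_le hPU fun a ha ha1 => ?_))
  have h1 := hm.oddVal a ha ha1
  rw [← Nat.not_even_iff_odd, even_iff_two_dvd] at h1
  have hq : IsPGroup 2 (P ⊓ centralizer ({a} : Set G) : Subgroup G) :=
    (S.isPGroup'.map U.subtype).to_le inf_le_left
  obtain ⟨n, hn⟩ := IsPGroup.iff_card.mp hq
  rcases Nat.eq_zero_or_pos n with rfl | hn0
  · exact (eq_bot_of_card_le _ (by rw [hn, pow_zero])).le
  · exact absurd ((dvd_pow_self 2 hn0.ne').trans
      (hn ▸ card_dvd_of_le (hPU.2.2.2 a ha ha1))) h1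

theorem exists_ne_bot : ∃ a ∈ A, a ≠ 1 ∧ θ a ≠ ⊥ := by
  by_contra h
  push Not at h
  exact hm.bad ⟨⊥, bot_mem_family, fun a ha ha1 => (h a ha ha1).le⟩

/-- A proper balanced subfunctor is completed by a member. -/
theorem exists_completion (σ : G → Subgroup G) (hle : ∀ a ∈ A, a ≠ 1 → σ a ≤ θ a)
    (hinv : ∀ a ∈ A, a ≠ 1 → A ≤ normalizer (σ a : Set G))
    (hbal : ∀ a ∈ A, a ≠ 1 → ∀ b ∈ A, b ≠ 1 → σ a ⊓ centralizer ({b} : Set G) ≤ σ b)
    (hlt : ∃ a ∈ A, a ≠ 1 ∧ σ a ≠ θ a) :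
    ∃ W ∈ signalizerFamily p A θ, (∀ a ∈ A, a ≠ 1 → σ a ≤ W) ∧
      ∀ a ∈ A, a ≠ 1 → W ⊓ centralizer ({a} : Set G) ≤ σ a := by
  have hfun : IsSolvableSignalizerFunctor p A σ :=
    ⟨⟨fun a ha ha1 => (hle a ha ha1).trans (hm.func.1.1 a ha ha1),
      fun a ha ha1 hd => hm.func.1.2.1 a ha ha1 (hd.trans (card_dvd_of_le (hle a ha ha1))),
      fun a ha ha1 b hb x hx => conj_mem_of_mem_normalizer (hinv a ha ha1 hb) hx, hbal⟩,
      fun a ha ha1 => Coprime.solvable_of_le (hle a ha ha1) (hm.func.2 a ha ha1)⟩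
  have hmass : mass A σ < mass A θ := by
    classical
    haveI := Fintype.ofFinite {a : A // a ≠ 1}
    simp only [mass, finsum_eq_sum_of_fintype]
    obtain ⟨a, ha, ha1, hne⟩ := hlt
    refine Finset.sum_lt_sum (fun i _ => card_le_of_le (hle _ i.1.2 fun h => i.2 (Subtype.ext h)))
      ⟨⟨⟨a, ha⟩, fun h => ha1 (congrArg Subtype.val h)⟩, Finset.mem_univ _, ?_⟩
    exact lt_of_le_of_ne (card_le_of_le (hle a ha ha1))
      fun h => hne (eq_of_le_of_card_ge (hle a ha ha1) h.ge)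
  obtain ⟨W, hW, hWle⟩ := hm.minimal G A σ hm.elem hm.rank hfun
    (fun a ha ha1 => (hm.oddVal a ha ha1).of_dvd_nat (card_dvd_of_le (hle a ha ha1))) hmass
  exact ⟨W, ⟨hW.1, hW.2.1, hW.2.2.1, fun a ha ha1 => (hW.2.2.2 a ha ha1).trans (hle a ha ha1)⟩,
    hWle, hW.2.2.2⟩

/-- No nontrivial member is normalized by every `θ a`. -/
theorem false_of_normalized {N : Subgroup G} (hN : N ∈ signalizerFamily p A θ) (hNne : N ≠ ⊥)
    (h : ∀ a ∈ A, a ≠ 1 → θ a ≤ normalizer (N : Set G)) : False := by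
  classical
  set M : Subgroup G := normalizer (N : Set G) with hM
  have hAM : A ≤ M := member_normalizer hN
  have hNM : N ≤ M := le_normalizer
  haveI hNn : (N.subgroupOf M).Normal := (normal_subgroupOf_iff_le_normalizer hNM).mpr le_rfl
  set A' : Subgroup M := A.subgroupOf M with hA'
  let θ' : M → Subgroup M := fun m => (θ (m : G)).subgroupOf M
  have hmem : ∀ {a : M}, a ∈ A' → (a : G) ∈ A := fun h => mem_subgroupOf.mp h
  have hne : ∀ {a : M}, a ≠ 1 → (a : G) ≠ 1 := fun h h' => h (Subtype.ext h')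
  have hA'e : IsElementaryAbelian p A' :=
    ⟨⟨⟨fun x y => Subtype.ext (Subtype.ext (comm_of_mem hm.elem (hmem x.2) (hmem y.2)))⟩⟩,
      fun x hx => Subtype.ext (by simpa using hm.elem.2 _ (hmem hx))⟩
  have hcard : ∀ {H : Subgroup G}, H ≤ M → Nat.card (H.subgroupOf M) = Nat.card H := fun hH =>
    Nat.card_congr (subgroupOfEquivOfLe hH).toEquiv
  have hθ' : IsSignalizerFunctor p A' θ' := by
    refine ⟨fun a ha ha1 x hx => ?_, fun a ha ha1 hd => ?_, fun a ha ha1 b hb x hx => ?_,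
      fun a ha ha1 b hb hb1 x hx => ?_⟩
    · exact mem_centralizer_singleton_iff.mpr (Subtype.ext
        (mem_centralizer_singleton_iff.mp (hm.func.1.1 _ (hmem ha) (hne ha1) (mem_subgroupOf.mp hx))))
    · exact hm.func.1.2.1 _ (hmem ha) (hne ha1)
        (hd.trans (by rw [hcard (h _ (hmem ha) (hne ha1))]))
    · exact mem_subgroupOf.mpr (hm.func.1.2.2.1 _ (hmem ha) (hne ha1) _ (hmem hb) _
        (mem_subgroupOf.mp hx))
    · obtain ⟨hx1, hx2⟩ := mem_inf.mp hx
      exact mem_subgroupOf.mpr (hm.func.1.2.2.2 _ (hmem ha) (hne ha1) _ (hmem hb) (hne hb1)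
        (mem_inf.mpr ⟨mem_subgroupOf.mp hx1,
          mem_centralizer_singleton_iff.mpr (congrArg Subtype.val (mem_centralizer_singleton_iff.mp hx2))⟩))
  have hpN : ¬ p ∣ Nat.card (N.subgroupOf M) := by rw [hcard hNM]; exact hN.2.1
  let π : M →* M ⧸ N.subgroupOf M := QuotientGroup.mk' _
  have hπ : ∀ x : M, π x = 1 ↔ (x : G) ∈ N := fun x =>
    (QuotientGroup.eq_one_iff x).trans mem_subgroupOf
  have hinj : ∀ x ∈ A', ∀ y ∈ A', π x = π y → x = y := by
    intro x hx y hy hxy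
    have h1 : ((x⁻¹ * y : M) : G) ∈ A ⊓ N := ⟨mem_subgroupOf.mp (mul_mem (inv_mem hx) hy),
      (hπ _).mp (by simp [hxy])⟩
    rw [inf_eq_bot_of_coprime (hm.coprime hN), mem_bot] at h1
    exact inv_mul_eq_one.mp (Subtype.ext h1)
  set B : Subgroup (M ⧸ N.subgroupOf M) := A'.map π with hB
  let e : A' → B := fun x => ⟨π x, x, x.2, rfl⟩
  have hebij : Function.Bijective e := by
    refine ⟨fun x y hxy => Subtype.ext (hinj _ x.2 _ y.2 (congrArg Subtype.val hxy)), ?_⟩
    rintro ⟨_, x, hx, rfl⟩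
    exact ⟨⟨x, hx⟩, rfl⟩
  let σ : M ⧸ N.subgroupOf M → Subgroup (M ⧸ N.subgroupOf M) := fun z =>
    if hz : ∃ a ∈ A', π a = z then (θ' hz.choose).map π else ⊥
  have hσ : ∀ a ∈ A', σ (π a) = (θ' a).map π := by
    intro a ha
    have hz : ∃ b ∈ A', π b = π a := ⟨a, ha, rfl⟩
    simp only [σ, dif_pos hz]
    rw [hinj _ hz.choose_spec.1 a ha hz.choose_spec.2]
  have hBe : IsElementaryAbelian p B := by
    refine ⟨⟨⟨?_⟩⟩, ?_⟩
    · rintro ⟨_, x, hx, rfl⟩ ⟨_, y, hy, rfl⟩
      refine Subtype.ext ?_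
      show π x * π y = π y * π x
      rw [← map_mul, ← map_mul]
      exact congrArg π (Subtype.ext (comm_of_mem hm.elem (hmem hx) (hmem hy)))
    · rintro _ ⟨x, hx, rfl⟩
      rw [← map_pow, show x ^ p = 1 from hA'e.2 x hx, map_one]
  have hBcard : Nat.card B = Nat.card A := by
    rw [← Nat.card_congr (Equiv.ofBijective e hebij), hcard hAM]
  have hb_of : ∀ {b : M ⧸ N.subgroupOf M}, b ∈ B → b ≠ 1 →
      ∃ a ∈ A', a ≠ 1 ∧ π a = b := by
    rintro _ ⟨a, ha, rfl⟩ hb1
    exact ⟨a, ha, fun h => hb1 (by rw [h, map_one]), rfl⟩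
  have hσdvd : ∀ a ∈ A', a ≠ 1 → Nat.card (σ (π a)) ∣ Nat.card (θ (a : G)) := by
    intro a ha ha1
    rw [hσ a ha]
    exact (card_map_dvd _ _).trans (hcard (h _ (hmem ha) (hne ha1))).dvd
  have hσfun : IsSolvableSignalizerFunctor p B σ := by
    refine ⟨⟨fun b hb hb1 => ?_, fun b hb hb1 hd => ?_, fun b hb hb1 c hc z hz => ?_,
      fun b hb hb1 c hc hc1 => ?_⟩, fun b hb hb1 => ?_⟩
    · obtain ⟨a, ha, ha1, rfl⟩ := hb_of hb hb1
      rw [hσ a ha]
      rintro _ ⟨x, hx, rfl⟩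
      exact mem_centralizer_singleton_iff.mpr (by
        rw [← map_mul, ← map_mul, mem_centralizer_singleton_iff.mp (hθ'.1 a ha ha1 hx)])
    · obtain ⟨a, ha, ha1, rfl⟩ := hb_of hb hb1
      exact hm.func.1.2.1 _ (hmem ha) (hne ha1) (hd.trans (hσdvd a ha ha1))
    · obtain ⟨a, ha, ha1, rfl⟩ := hb_of hb hb1
      obtain ⟨c, hc', rfl⟩ := hc
      rw [hσ a ha] at hz ⊢
      obtain ⟨x, hx, rfl⟩ := hz
      exact ⟨c * x * c⁻¹, hθ'.2.2.1 a ha ha1 c hc' x hx, by simp⟩
    · obtain ⟨a, ha, ha1, rfl⟩ := hb_of hb hb1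
      obtain ⟨c, hc', hc'1, rfl⟩ := hb_of hc hc1
      rw [hσ a ha, hσ c hc']
      exact map_theta_inf_centralizer_le hA'e hθ' (N.subgroupOf M) hpN ha ha1 hc' hc'1
    · obtain ⟨a, ha, ha1, rfl⟩ := hb_of hb hb1
      rw [hσ a ha]
      haveI := hm.func.2 _ (hmem ha) (hne ha1)
      exact Group.isSolvable_of_surjective
        (f := (π.subgroupMap _).comp (subgroupOfEquivOfLe (h _ (hmem ha) (hne ha1))).symm.toMonoidHom)
        ((π.subgroupMap_surjective _).comp (MulEquiv.surjective _))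
  obtain ⟨a₀, ha₀, ha₀1, hN₀⟩ : ∃ a ∈ A, a ≠ 1 ∧ N ⊓ θ a ≠ ⊥ := by
    by_contra hc
    push Not at hc
    exact hNne (le_bot_iff.mp (hm.member_le hN fun a ha ha1 =>
      le_trans (le_inf inf_le_left (hN.2.2.2 a ha ha1)) (hc a ha ha1).le))
  have hmass : mass B σ < mass A θ := by
    haveI := Fintype.ofFinite {a : A // a ≠ 1}
    haveI := Fintype.ofFinite {b : B // b ≠ 1}
    simp only [mass, finsum_eq_sum_of_fintype]
    let f : {a : A // a ≠ 1} → {b : B // b ≠ 1} := fun a =>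
      ⟨e ⟨⟨(a : G), hAM a.1.2⟩, mem_subgroupOf.mpr a.1.2⟩, fun h1 => a.2 (Subtype.ext (by
        have h2 := hinj _ (mem_subgroupOf.mpr (show ((⟨(a : G), hAM a.1.2⟩ : M) : G) ∈ A from a.1.2))
          1 (one_mem _) ((congrArg Subtype.val h1).trans (map_one π).symm)
        exact congrArg (fun z : M => (z : G)) h2))⟩
    have hf : Function.Bijective f := by
      refine ⟨fun x y hxy => ?_, fun b => ?_⟩
      · have h1 := hebij.1 (congrArg Subtype.val hxy)
        exact Subtype.ext (Subtype.ext (congrArg (fun z : A' => ((z : M) : G)) h1))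
      · obtain ⟨a, ha⟩ := hebij.2 b.1
        refine ⟨⟨⟨(a : M), hmem a.2⟩, fun h1 => b.2 ?_⟩, Subtype.ext ?_⟩
        · rw [← ha]
          refine Subtype.ext ?_
          show π (a : M) = 1
          rw [show (a : M) = 1 from Subtype.ext (congrArg (fun z : A => (z : G)) h1), map_one]
        · exact ha
    rw [← hf.sum_comp]
    refine Finset.sum_lt_sum (fun i _ => Nat.le_of_dvd Nat.card_pos
      (hσdvd _ (mem_subgroupOf.mpr i.1.2) fun h1 => i.2 (Subtype.ext (congrArg (fun z : M => (z : G)) h1))))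
      ⟨⟨⟨a₀, ha₀⟩, fun h1 => ha₀1 (congrArg Subtype.val h1)⟩, Finset.mem_univ _, ?_⟩
    show Nat.card (σ (π ⟨a₀, hAM ha₀⟩)) < Nat.card (θ a₀)
    refine lt_of_le_of_ne (Nat.le_of_dvd Nat.card_pos (hσdvd _ (mem_subgroupOf.mpr ha₀)
      fun h1 => ha₀1 (congrArg Subtype.val h1))) fun heq => hN₀ ?_
    rw [hσ ⟨a₀, hAM ha₀⟩ (mem_subgroupOf.mpr ha₀)] at heq
    have hle0 := h a₀ ha₀ ha₀1
    rw [← hcard hle0] at heq
    have hinj0 : Function.Injective (π.subgroupMap ((θ a₀).subgroupOf M)) :=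
      ((π.subgroupMap_surjective _).bijective_of_nat_card_le heq.ge).1
    rw [eq_bot_iff]
    rintro x ⟨hxN, hxθ⟩
    have := hinj0 (a₁ := ⟨⟨x, hle0 hxθ⟩, mem_subgroupOf.mpr hxθ⟩) (a₂ := 1)
      (by rw [map_one]; exact Subtype.ext ((hπ _).mpr hxN))
    exact mem_bot.mpr (congrArg (fun z : (θ a₀).subgroupOf M => ((z : M) : G)) this)
  have hσodd : ∀ b ∈ B, b ≠ 1 → Odd (Nat.card (σ b)) := fun b hb hb1 => by
    obtain ⟨a, ha, ha1, rfl⟩ := hb_of hb hb1
    exact (hm.oddVal _ (hmem ha) (hne ha1)).of_dvd_nat (hσdvd a ha ha1)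
  obtain ⟨W', hW', hW'le⟩ := hm.minimal _ B σ hBe (hBcard ▸ hm.rank) hσfun hσodd hmass
  set W : Subgroup G := (W'.comap π).map M.subtype with hW
  have hWcard : Nat.card W = Nat.card W' * Nat.card N := by
    rw [hW, card_map_of_injective M.subtype_injective, ← hcard hNM]
    exact Solvable.card_comap_mk' _ _
  refine hm.bad ⟨W, ⟨?_, ?_, ?_, fun a ha ha1 => ?_⟩, fun a ha ha1 x hx => ?_⟩
  · haveI := hW'.1
    haveI := hN.1
    let f : (W'.comap π : Subgroup M) →* W' := π.subgroupComap W'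
    haveI : Group.IsSolvable (W'.comap π : Subgroup M) := by
      let g : f.ker →* N :=
        { toFun := fun x => ⟨((x : (W'.comap π : Subgroup M)) : M), (hπ _).mp
            (congrArg Subtype.val (MonoidHom.mem_ker.mp x.2))⟩
          map_one' := rfl
          map_mul' := fun _ _ => rfl }
      have hg : Function.Injective g := fun x y hxy => by
        apply Subtype.ext
        apply Subtype.ext
        exact Subtype.ext (congrArg (fun z : N => (z : G)) hxy)
      haveI := Group.isSolvable_of_isSolvable_injective hg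
      exact Group.isSolvable_of_ker_le_range f.ker.subtype f (by rw [f.ker.range_subtype])
    exact Group.isSolvable_of_surjective (M.subtype.subgroupMap_surjective (W'.comap π))
  · rw [hWcard]
    exact fun hd => (hp.out.dvd_mul.mp hd).elim hW'.2.1 hN.2.1
  · rintro b hb _ ⟨y, hy, rfl⟩
    refine ⟨⟨b, hAM hb⟩ * y * (⟨b, hAM hb⟩ : M)⁻¹, ?_, rfl⟩
    show π (_ * _ * _) ∈ W'
    simp only [map_mul, map_inv]
    exact hW'.2.2.1 _ ⟨⟨b, hAM hb⟩, mem_subgroupOf.mpr hb, rfl⟩ _ hy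
  · intro x hx
    obtain ⟨⟨y, hy, rfl⟩, hyc⟩ := mem_inf.mp hx
    have ha' : (⟨a, hAM ha⟩ : M) ∈ A' := mem_subgroupOf.mpr ha
    have ha'1 : (⟨a, hAM ha⟩ : M) ≠ 1 := fun h1 => ha1 (congrArg Subtype.val h1)
    have hz : π y ∈ σ (π ⟨a, hAM ha⟩) := by
      refine hW'.2.2.2 _ ⟨_, ha', rfl⟩
        (fun h1 => ha'1 (hinj _ ha' 1 (one_mem _) (h1.trans (map_one π).symm)))
        (mem_inf.mpr ⟨hy, mem_centralizer_singleton_iff.mpr ?_⟩)
      rw [← map_mul, ← map_mul, show y * ⟨a, hAM ha⟩ = ⟨a, hAM ha⟩ * y from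
        Subtype.ext (mem_centralizer_singleton_iff.mp hyc)]
    rw [hσ _ ha'] at hz
    obtain ⟨t, ht, hty⟩ := hz
    have htC : (t : G) ∈ centralizer ({a} : Set G) := hm.func.1.1 a ha ha1 (mem_subgroupOf.mp ht)
    have hn : ((t⁻¹ * y : M) : G) ∈ N := (hπ _).mp (by simp [hty])
    have : ((t⁻¹ * y : M) : G) ∈ θ a := hN.2.2.2 a ha ha1
      (mem_inf.mpr ⟨hn, mul_mem (inv_mem htC) hyc⟩)
    simpa using mul_mem (mem_subgroupOf.mp ht) this
  · refine ⟨⟨x, h a ha ha1 hx⟩, ?_, rfl⟩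
    show π _ ∈ W'
    have ha' : (⟨a, hAM ha⟩ : M) ∈ A' := mem_subgroupOf.mpr ha
    refine hW'le _ ⟨_, ha', rfl⟩ (fun h1 => ha1 (congrArg Subtype.val
      (hinj _ ha' 1 (one_mem _) (h1.trans (map_one π).symm)))) ?_
    rw [hσ _ ha']
    exact ⟨_, mem_subgroupOf.mpr hx, rfl⟩

/-- The largest member normalizing `X`. -/
theorem exists_normalizer_member {X : Subgroup G} (hX : X ∈ signalizerFamily p A θ) (hX1 : X ≠ ⊥) :
    ∃ N ∈ signalizerFamily p A θ, N ≤ normalizer (X : Set G) ∧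
      ∀ U ∈ signalizerFamily p A θ, U ≤ normalizer (X : Set G) → U ≤ N := by
  obtain ⟨N, hN, hle, hge⟩ := hm.exists_completion (fun a => θ a ⊓ normalizer (X : Set G))
    (fun a _ _ => inf_le_left)
    (fun a ha ha1 => Coprime.le_normalizer_inf (member_normalizer (theta_mem_family hm.func ha ha1))
      (Coprime.le_normalizer_normalizer (member_normalizer hX)))
    (fun a ha ha1 b hb hb1 x hx => mem_inf.mpr
      ⟨hm.func.1.2.2.2 a ha ha1 b hb hb1 (mem_inf.mpr ⟨(mem_inf.mp (mem_inf.mp hx).1).1, (mem_inf.mp hx).2⟩),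
        (mem_inf.mp (mem_inf.mp hx).1).2⟩)
    (by
      by_contra hc
      push Not at hc
      exact hm.false_of_normalized hX hX1 fun a ha ha1 => (hc a ha ha1).ge.trans inf_le_right)
  exact ⟨N, hN, hm.member_le hN fun a ha ha1 => (hge a ha ha1).trans inf_le_right,
    fun U hU hUX => hm.member_le hU fun a ha ha1 =>
      le_trans (le_inf (hU.2.2.2 a ha ha1) (inf_le_left.trans hUX)) (hle a ha ha1)⟩

end IsMinBad

end Cfsg.Agent.SFT45
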