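import Cfsg.Agent.SFT45.Tools
import Cfsg.Agent.Lib.Coprime.HallHigman
import Cfsg.Agent.Lib.Coprime.Abelian
import Cfsg.Agent.Lib.PGroup.Basic
import Cfsg.Agent.Lib.Fitting.Minimal
import Cfsg.Agent.Lib.Components.GenFitting

/-!
Flavell's lemma: for `X` solvable and `a` of prime order `p` acting coprimely, a `q`-subgroup `P`
of `X` invariant under `a` and `C_X(a)` has `⁅P, a⁆ ≤ O_q(X)`, unless `q = 2` and `p` is a Fermat
prime.
-/

set_option autoImplicit false
set_option linter.style.haveILetI false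
set_option maxHeartbeats 400000

namespace Cfsg.Agent.SFT45

open Subgroup Coprime
open scoped commutatorElement IsMulCommutative Pointwise

variable {G : Type*} [Group G] [Finite G]

/-- In a solvable group what centralizes every core lies in the Fitting subgroup. -/
theorem le_fitting_of_centralizes {X P : Subgroup G} (hX : Group.IsSolvable X) (hP : P ≤ X)
    (h : ∀ s : ℕ, s.Prime → P ≤ centralizer (pCoreOf s X : Set G)) :
    P ≤ (fittingSubgroup X).map X.subtype := by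
  haveI := hX
  intro x hx
  refine ⟨⟨x, hP hx⟩, Fitting.centralizer_fitting_le ?_, rfl⟩
  have hle : fittingSubgroup X ≤ centralizer ({⟨x, hP hx⟩} : Set X) := by
    rw [Fitting.fitting_eq_iSup_pCore]
    refine iSup_le fun s y hy => mem_centralizer_singleton_iff.mpr (Subtype.ext ?_)
    exact mem_centralizer_iff.mp (h s s.2 hx) (y : G) ⟨y, hy, rfl⟩
  exact mem_centralizer_iff.mpr fun y hy => mem_centralizer_singleton_iff.mp (hle hy)

theorem orderOf_zpowers_coprime {p : ℕ} [Fact p.Prime] {a : G} (ha : a ^ p = 1) {X : Subgroup G}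
    (h : ¬ p ∣ Nat.card X) : (Nat.card (zpowers a)).Coprime (Nat.card X) := by
  rw [Nat.card_zpowers]
  exact ((Fact.out : p.Prime).coprime_iff_not_dvd.mpr h).coprime_dvd_left
    (orderOf_dvd_of_pow_eq_one ha)

theorem coprime_of_isPGroup {p q : ℕ} [Fact p.Prime] [Fact q.Prime] (hne : p ≠ q) {X Y : Subgroup G}
    (hX : IsPGroup p X) (hY : IsPGroup q Y) : (Nat.card X).Coprime (Nat.card Y) := by
  obtain ⟨m, hm⟩ := IsPGroup.iff_card.mp hX
  obtain ⟨n, hn⟩ := IsPGroup.iff_card.mp hY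
  rw [hm, hn]
  exact ((Nat.coprime_primes Fact.out Fact.out).mpr hne).pow m n

/-- The action on the Frattini quotient in Flavell's lemma. -/
theorem centralizes_frattini_quotient {p q s : ℕ} [Fact p.Prime] [hq : Fact q.Prime]
    [hs : Fact s.Prime] (hsq : s ≠ q) (hsp : s ≠ p) (hqp : q ≠ p)
    (U P : Subgroup G) (hU : IsPGroup s U) (hP : IsPGroup q P)
    (hexc : q = 2 → (∃ m, p = 2 ^ m + 1) → ∀ x ∈ P, ∀ y ∈ P, x * y = y * x)
    (a : G) (ha : a ^ p = 1) (haU : a ∈ normalizer (U : Set G)) (haP : a ∈ normalizer (P : Set G))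
    (hPU : P ≤ normalizer (U : Set G)) (hUP : ⁅U, P⁆ = U)
    (hC : U ⊓ centralizer ({a} : Set G) ≤ centralizer (P : Set G)) :
    ⁅P, zpowers a⁆ ≤ centralizer (U : Set G) := by
  set Φ : Subgroup G := (frattini U).map U.subtype with hΦ
  set M : Subgroup G := normalizer (U : Set G) with hM
  have hMΦ : M ≤ normalizer (Φ : Set G) := Coprime.normalizer_le_normalizer_map U (frattini U)
  haveI : (Φ.subgroupOf M).Normal :=
    (normal_subgroupOf_iff_le_normalizer ((map_subtype_le _).trans le_normalizer)).mpr hMΦ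
  let π : M →* M ⧸ Φ.subgroupOf M := QuotientGroup.mk' _
  let V : Subgroup (M ⧸ Φ.subgroupOf M) := (U.subgroupOf M).map π
  haveI : (U.subgroupOf M).Normal := normal_subgroupOf_iff_le_normalizer le_normalizer |>.mpr le_rfl
  haveI : V.Normal := Subgroup.Normal.map inferInstance π (QuotientGroup.mk'_surjective _)
  have hUM : U ≤ M := le_normalizer
  have hπ : ∀ x : M, π x = 1 ↔ (x : G) ∈ Φ := fun x =>
    (QuotientGroup.eq_one_iff x).trans mem_subgroupOf
  have hVc : ∀ x y : V, x * y = y * x := by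
    rintro ⟨_, x, hx, rfl⟩ ⟨_, y, hy, rfl⟩
    refine Subtype.ext (commutatorElement_eq_one_iff_mul_comm.mp ?_)
    show ⁅π x, π y⁆ = 1
    rw [← map_commutatorElement, hπ]
    exact ⟨⁅(⟨x, hx⟩ : U), ⟨y, hy⟩⁆, PGroup.comm_mem_frattini hU _ _, by
      simp [commutatorElement_def]⟩
  have hVe : ∀ v : V, v ^ s = 1 := by
    rintro ⟨_, x, hx, rfl⟩
    refine Subtype.ext ?_
    show π x ^ s = 1
    rw [← map_pow, hπ]
    exact ⟨(⟨x, hx⟩ : U) ^ s, PGroup.pow_mem_frattini hU _, by simp⟩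
  haveI : IsMulCommutative V := ⟨⟨hVc⟩⟩
  obtain ⟨φ, hφ⟩ : ∃ φ : M ⧸ Φ.subgroupOf M →* MulAut V, ∀ g (v : V),
      ((φ g v : V) : M ⧸ Φ.subgroupOf M) = g * v * g⁻¹ :=
    ⟨MulAut.conjNormal, fun g v => MulAut.conjNormal_apply g v⟩
  let ā : M ⧸ Φ.subgroupOf M := π ⟨a, haU⟩
  let P' : Subgroup (M ⧸ Φ.subgroupOf M) := (P.subgroupOf M).map π
  have hP'q : IsPGroup q P' := (hP.of_equiv (subgroupOfEquivOfLe hPU).symm).map π
  have hPV : P' ≤ normalizer (V : Set (M ⧸ Φ.subgroupOf M)) :=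
    le_of_le_of_eq le_top (normalizer_eq_top_iff.mpr ‹V.Normal›).symm
  have hVs : IsPGroup s V := (hU.of_equiv (subgroupOfEquivOfLe hUM).symm).map π
  have hcopPV : (Nat.card P').Coprime (Nat.card V) := coprime_of_isPGroup hsq.symm hP'q hVs
  have hVP : ⁅V, P'⁆ = V := by
    rw [← map_commutator]
    congr 1
    apply map_injective M.subtype_injective
    rw [map_commutator, map_subgroupOf_eq_of_le hUM, map_subgroupOf_eq_of_le hPU, hUP]
  have hfix : ∀ v : V, φ ā v = v → v = 1 := by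
    rintro ⟨_, x, hx, rfl⟩ hv
    have hv' : ā * π x * ā⁻¹ = π x := (hφ ā ⟨π x, x, hx, rfl⟩).symm.trans (congrArg Subtype.val hv)
    have hmem : ∀ y ∈ zpowers a, y * (x : G) * y⁻¹ * (x : G)⁻¹ ∈ Φ := by
      intro y hy
      obtain ⟨k, rfl⟩ := mem_zpowers_iff.mp hy
      have hcomm : Commute ā (π x) := mul_inv_eq_iff_eq_mul.mp hv'
      have hz := (hπ ((⟨a, haU⟩ : M) ^ k * x * ((⟨a, haU⟩ : M) ^ k)⁻¹ * x⁻¹)).mp (by
        simp only [map_mul, map_inv, map_zpow]
        show ā ^ k * π x * (ā ^ k)⁻¹ * (π x)⁻¹ = 1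
        rw [(hcomm.zpow_left k).eq]
        group)
      simpa using hz
    have hpU : ¬ p ∣ Nat.card U := fun hd => by
      obtain ⟨m, hm⟩ := IsPGroup.iff_card.mp hU
      rw [hm] at hd
      exact hsp.symm ((Nat.prime_dvd_prime_iff_eq Fact.out Fact.out).mp
        ((Fact.out : p.Prime).dvd_of_dvd_pow hd))
    obtain ⟨n, hn, hc⟩ := exists_fixed_in_coset_of_normal (zpowers a) Φ
      (zpowers_le.mpr (hMΦ haU))
      ((orderOf_zpowers_coprime ha hpU).coprime_dvd_right
        (card_dvd_of_le (map_subtype_le (frattini U)))) (Or.inl inferInstance) (x : G) (hMΦ x.2) hmem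
    rw [centralizer_zpowers] at hc
    have hu : (x : G) * n ∈ U := mul_mem hx (map_subtype_le _ hn)
    have hxn : π x = π ⟨(x : G) * n, hUM hu⟩ := by
      rw [show (⟨(x : G) * n, hUM hu⟩ : M) = x * ⟨n, hUM (map_subtype_le _ hn)⟩ from Subtype.ext rfl,
        map_mul, (hπ ⟨n, _⟩).mpr hn, mul_one]
    refine Subtype.ext ?_
    show π x = 1
    have hcen : π x ∈ V ⊓ centralizer (P' : Set (M ⧸ Φ.subgroupOf M)) := by
      refine ⟨⟨x, hx, rfl⟩, mem_centralizer_iff.mpr ?_⟩
      rintro _ ⟨y, hy, rfl⟩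
      rw [hxn, ← map_mul, ← map_mul]
      exact congrArg π (Subtype.ext (mem_centralizer_iff.mp (hC ⟨hu, hc⟩) y hy))
    rw [← hVP, commutator_inf_centralizer_eq_bot P' V hPV hcopPV, mem_bot] at hcen
    exact hcen
  have hā : ā ^ p = 1 := by
    rw [← map_pow]
    simp [Subtype.ext_iff, ha, show (⟨a, haU⟩ : M) ^ p = 1 from Subtype.ext ha]
  have hāP : ā ∈ normalizer (P' : Set (M ⧸ Φ.subgroupOf M)) := by
    refine zpowers_le.mp (Coprime.le_normalizer_of_conj_mem ?_)
    rintro y hy _ ⟨z, hz, rfl⟩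
    obtain ⟨k, rfl⟩ := mem_zpowers_iff.mp hy
    refine ⟨(⟨a, haU⟩ : M) ^ k * z * ((⟨a, haU⟩ : M) ^ k)⁻¹, ?_, by simp [ā]⟩
    simpa [mem_subgroupOf] using conj_mem_of_mem_normalizer
      (show (a : G) ^ k ∈ normalizer (P : Set G) from zpow_mem haP k) (mem_subgroupOf.mp hz)
  have hker : ∀ x ∈ P, ∀ hxM : ⁅x, a⁆ ∈ M, φ (π ⟨⁅x, a⁆, hxM⟩) = 1 := by
    intro x hx hxM
    have := LinAct.map_commutator_eq_one (Fact.out : p.Prime) hqp hsq hsp hVc hVe φ ā hā hfix P' hP'q hāP
      (by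
        rintro h1 h2 _ ⟨y, hy, rfl⟩ _ ⟨y', hy', rfl⟩
        rw [← map_mul, ← map_mul]
        exact congrArg π (Subtype.ext (hexc h1 h2 y hy y' hy')))
      (x := π ⟨x, hPU hx⟩) ⟨⟨x, hPU hx⟩, hx, rfl⟩
    rwa [← map_commutatorElement] at this
  set T : Subgroup G := ((φ.comp π).ker).map M.subtype with hT
  have haT : a ∈ normalizer (T : Set G) := by
    refine zpowers_le.mp (Coprime.le_normalizer_of_conj_mem ?_)
    rintro y hy _ ⟨z, hz, rfl⟩
    exact ⟨⟨y, zpowers_le.mpr haU hy⟩ * z * (⟨y, zpowers_le.mpr haU hy⟩ : M)⁻¹,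
      (inferInstance : (φ.comp π).ker.Normal).conj_mem z hz _, rfl⟩
  have hPT : ⁅P, zpowers a⁆ ≤ T := commutator_zpowers_le haT fun x hx => by
    have hxM : ⁅x, a⁆ ∈ M :=
      mul_mem (mul_mem (mul_mem (hPU hx) haU) (inv_mem (hPU hx))) (inv_mem haU)
    exact ⟨⟨_, hxM⟩, hker x hx hxM, rfl⟩
  have hP1 : IsPGroup q (⁅P, zpowers a⁆ : Subgroup G) :=
    hP.to_le (commutator_le_of_le_normalizer (zpowers_le.mpr haP))
  refine le_centralizer_of_frattini _ U (hPT.trans (map_subtype_le _))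
    ((coprime_of_isPGroup hsq.symm hP1 hU).coprime_dvd_right (card_subgroup_dvd_card _)) ?_
  intro g hg u hu
  obtain ⟨m, hm, rfl⟩ := hPT hg
  have h1 := congrArg (fun e : MulAut V => ((e ⟨π ⟨u, hUM hu⟩, ⟨u, hUM hu⟩, hu, rfl⟩ : V) :
    M ⧸ Φ.subgroupOf M)) (show φ (π m) = 1 from hm)
  simp only [hφ, MulAut.one_apply] at h1
  have h2 := (hπ (m * ⟨u, hUM hu⟩ * m⁻¹ * (⟨u, hUM hu⟩ : M)⁻¹)).mp (by
    simp only [map_mul, map_inv]
    rw [h1, mul_inv_cancel])
  simpa [Φ, -mem_map, -Subgroup.mem_map] using h2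

/-- Flavell's lemma with `O_q(X) = 1`. -/
theorem commutator_eq_bot_of_pCoreOf_eq_bot {p q : ℕ} [hp : Fact p.Prime] [hq : Fact q.Prime]
    (X P : Subgroup G) (hexc : q = 2 → (∃ m, p = 2 ^ m + 1) → ∀ x ∈ P, ∀ y ∈ P, x * y = y * x)
    (hX : Group.IsSolvable X) (a : G)
    (ha : a ^ p = 1) (haX : a ∈ normalizer (X : Set G)) (hpX : ¬ p ∣ Nat.card X) (hPX : P ≤ X)
    (hP : IsPGroup q P) (haP : a ∈ normalizer (P : Set G))
    (hCP : X ⊓ centralizer ({a} : Set G) ≤ normalizer (P : Set G))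
    (hO : pCoreOf q X = ⊥) : ⁅P, zpowers a⁆ = ⊥ := by
  rcases eq_or_ne P ⊥ with rfl | hPne
  · exact commutator_bot_left _
  have hza : zpowers a ≤ normalizer (P : Set G) := zpowers_le.mpr haP
  set P1 : Subgroup G := ⁅P, zpowers a⁆ with hP1
  have hP1P : P1 ≤ P := commutator_le_of_le_normalizer hza
  have hqp : q ≠ p := by
    rintro rfl
    obtain ⟨n, hn⟩ := IsPGroup.iff_card.mp hP
    rcases Nat.eq_zero_or_pos n with rfl | hn0
    · exact hPne (eq_bot_of_card_le P (by simp [hn]))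
    · exact hpX ((dvd_pow_self q hn0.ne').trans (hn ▸ card_dvd_of_le hPX))
  have hcent : ∀ s : ℕ, s.Prime → P1 ≤ centralizer (pCoreOf s X : Set G) := by
    intro s hs
    haveI := Fact.mk hs
    rcases eq_or_ne s q with rfl | hsq
    · rw [hO]
      exact le_centralizer_iff.mp bot_le
    set U : Subgroup G := pCoreOf s X with hUd
    have hU : IsPGroup s U := isPGroup_pCoreOf
    rcases eq_or_ne U ⊥ with hU0 | hU0
    · rw [hU0]
      exact le_centralizer_iff.mp bot_le
    have hsp : s ≠ p := by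
      rintro rfl
      obtain ⟨n, hn⟩ := IsPGroup.iff_card.mp hU
      rcases Nat.eq_zero_or_pos n with rfl | hn0
      · exact hU0 (eq_bot_of_card_le U (by simp [hn]))
      · exact hpX ((dvd_pow_self s hn0.ne').trans (hn ▸ card_dvd_of_le pCoreOf_le))
    have hPU : P ≤ normalizer (U : Set G) := hPX.trans le_normalizer_pCoreOf
    have haU : a ∈ normalizer (U : Set G) := normalizer_le_normalizer_pCoreOf haX
    have hcopPU : (Nat.card P).Coprime (Nat.card U) := coprime_of_isPGroup hsq.symm hP hU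
    have hUsol : Group.IsSolvable U := solvable_of_le pCoreOf_le hX
    set U' : Subgroup G := ⁅U, P⁆ with hU'd
    have hU'U : U' ≤ U := commutator_le_of_le_normalizer hPU
    have hPU' : P ≤ normalizer (U' : Set G) := le_normalizer_commutator hPU le_normalizer
    have haU' : a ∈ normalizer (U' : Set G) :=
      le_normalizer_commutator (zpowers_le.mpr haU) hza (mem_zpowers a)
    have hUU : ⁅U', P⁆ = U' := Coprime.commutator_commutator_eq P U hPU hcopPU (Or.inr hUsol)
    have hC : U ⊓ centralizer ({a} : Set G) ≤ centralizer (P : Set G) := by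
      intro u hu'
      obtain ⟨hu, hua⟩ := mem_inf.mp hu'
      refine mem_centralizer_iff.mpr fun x hx => (commutatorElement_eq_one_iff_mul_comm.mp ?_).symm
      rw [← mem_bot, ← inf_eq_bot_of_coprime hcopPU]
      refine ⟨?_, ?_⟩
      · exact mul_mem (conj_mem_of_mem_normalizer (hCP ⟨pCoreOf_le hu, hua⟩) hx) (P.inv_mem hx)
      · simpa [commutatorElement_def, mul_assoc] using
          mul_mem hu (conj_mem_of_mem_normalizer (hPU hx) (inv_mem hu))
    have h1 : P1 ≤ centralizer (U' : Set G) :=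
      centralizes_frattini_quotient hsq hsp hqp U' P (hU.to_le hU'U) hP hexc a ha haU' haP hPU' hUU
        ((inf_le_inf_right _ hU'U).trans hC)
    have h2 : ⁅⁅U, P1⁆, P1⁆ = ⊥ := le_bot_iff.mp ((commutator_mono (commutator_mono le_rfl hP1P)
      le_rfl).trans (commutator_eq_bot_iff_le_centralizer.mpr (le_centralizer_iff.mp h1)).le)
    rw [Coprime.commutator_commutator_eq P1 U (hP1P.trans hPU)
      (hcopPU.coprime_dvd_left (card_dvd_of_le hP1P)) (Or.inr hUsol)] at h2
    exact le_centralizer_iff.mp (commutator_eq_bot_iff_le_centralizer.mp h2)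
  have hP1F := le_fitting_of_centralizes hX (hP1P.trans hPX) hcent
  have hF : fittingSubgroup X ≤ pPrimeCore q X := by
    rw [Fitting.fitting_eq_iSup_pCore]
    refine iSup_le fun r => ?_
    haveI : Fact (r : ℕ).Prime := ⟨r.2⟩
    rcases eq_or_ne (r : ℕ) q with h | h
    · rw [h, show pCore q X = ⊥ from (map_eq_bot_iff_of_injective _ X.subtype_injective).mp hO]
      exact bot_le
    · refine Thompson.le_pPrimeCore inferInstance ?_
      obtain ⟨n, hn⟩ := IsPGroup.iff_card.mp (Thompson.isPGroup_pCore (p := (r : ℕ)) (G := X))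
      rw [hn]
      exact Nat.Coprime.pow_left n ((Nat.coprime_primes r.2 hq.out).mpr h)
  rw [← inf_eq_left.mpr (hP1F.trans (map_mono hF))]
  exact Thompson.inf_eq_bot_of_isPGroup_of_coprime (hP.to_le hP1P)
    (Thompson.card_pPrimeCore_coprime.coprime_dvd_left (card_map_dvd _ _))

/-- **Flavell's lemma**, the exceptional case allowed for commutative `P`. -/
theorem commutator_le_pCoreOf' {p q : ℕ} [hp : Fact p.Prime] [hq : Fact q.Prime]
    (X P : Subgroup G) (hexc : q = 2 → (∃ m, p = 2 ^ m + 1) → ∀ x ∈ P, ∀ y ∈ P, x * y = y * x)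
    (hX : Group.IsSolvable X) (a : G)
    (ha : a ^ p = 1) (haX : a ∈ normalizer (X : Set G)) (hpX : ¬ p ∣ Nat.card X) (hPX : P ≤ X)
    (hP : IsPGroup q P) (haP : a ∈ normalizer (P : Set G))
    (hCP : X ⊓ centralizer ({a} : Set G) ≤ normalizer (P : Set G)) :
    ⁅P, zpowers a⁆ ≤ pCoreOf q X := by
  set R : Subgroup G := pCoreOf q X with hR
  set M : Subgroup G := normalizer (R : Set G) with hM
  have hXM : X ≤ M := le_normalizer_pCoreOf
  have haM : a ∈ M := normalizer_le_normalizer_pCoreOf haX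
  haveI : (R.subgroupOf M).Normal :=
    (normal_subgroupOf_iff_le_normalizer le_normalizer).mpr le_rfl
  let π : M →* M ⧸ R.subgroupOf M := QuotientGroup.mk' _
  have hπ : ∀ x : M, π x = 1 ↔ (x : G) ∈ R := fun x =>
    (QuotientGroup.eq_one_iff x).trans mem_subgroupOf
  set X' := (X.subgroupOf M).map π with hX'
  set P' := (P.subgroupOf M).map π with hP'
  have hPM : P ≤ M := hPX.trans hXM
  have hconj : ∀ (S : Subgroup G) (g : M), (g : G) ∈ normalizer (S : Set G) →
      π g ∈ normalizer (((S.subgroupOf M).map π : Subgroup _) : Set (M ⧸ R.subgroupOf M)) := by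
    intro S g hg
    refine zpowers_le.mp (Coprime.le_normalizer_of_conj_mem ?_)
    rintro y hy _ ⟨z, hz, rfl⟩
    obtain ⟨k, rfl⟩ := mem_zpowers_iff.mp hy
    have hgk : (g : G) ^ k ∈ normalizer (S : Set G) := zpow_mem hg k
    exact ⟨g ^ k * z * (g ^ k)⁻¹,
      (by simpa [mem_subgroupOf] using conj_mem_of_mem_normalizer hgk (mem_subgroupOf.mp hz)),
      (by simp)⟩
  have hX'sol : Group.IsSolvable X' :=
    haveI := hX
    Group.isSolvable_of_surjective
      (f := (π.subgroupMap (X.subgroupOf M)).comp (subgroupOfEquivOfLe hXM).symm.toMonoidHom)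
      ((π.subgroupMap_surjective _).comp (MulEquiv.surjective _))
  have hX'c : Nat.card X' ∣ Nat.card X :=
    (card_map_dvd _ _).trans (Nat.card_congr (subgroupOfEquivOfLe hXM).toEquiv).dvd
  have hā : π ⟨a, haM⟩ ^ p = 1 := by
    rw [← map_pow, show (⟨a, haM⟩ : M) ^ p = 1 from Subtype.ext ha, map_one]
  have hRX : R ≤ X := pCoreOf_le
  have hO : pCoreOf q X' = ⊥ := by
    set T : Subgroup M := (pCoreOf q X').comap π with hT
    have hkerX : π.ker ≤ X.subgroupOf M := by
      rw [show π.ker = R.subgroupOf M from QuotientGroup.ker_mk' _]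
      exact fun y hy => hRX hy
    have hTX : T ≤ X.subgroupOf M := by
      refine le_trans (comap_mono pCoreOf_le) ?_
      rw [hX', comap_map_eq, sup_eq_left.mpr hkerX]
    have hTq : IsPGroup q T := by
      refine isPGroup_pCoreOf.comap_of_ker_isPGroup π ?_
      rw [show π.ker = R.subgroupOf M from QuotientGroup.ker_mk' _]
      exact isPGroup_pCoreOf.of_equiv (subgroupOfEquivOfLe le_normalizer).symm
    have hTXG : T.map M.subtype ≤ X := by
      rintro _ ⟨y, hy, rfl⟩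
      exact hTX hy
    have hle : T.map M.subtype ≤ R := le_pCoreOf hTXG (by
      refine Coprime.le_normalizer_of_conj_mem ?_
      rintro x hx _ ⟨y, hy, rfl⟩
      refine ⟨⟨x, hXM hx⟩ * y * (⟨x, hXM hx⟩ : M)⁻¹, ?_, rfl⟩
      show π (_ * _ * _) ∈ pCoreOf q X'
      simp only [map_mul, map_inv]
      exact conj_mem_of_mem_normalizer
        (le_normalizer_pCoreOf (show π ⟨x, hXM hx⟩ ∈ X' from ⟨⟨x, hXM hx⟩, hx, rfl⟩)) hy)
      (hTq.map _)
    rw [eq_bot_iff]
    intro z hz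
    obtain ⟨y, rfl⟩ := QuotientGroup.mk'_surjective _ z
    exact (mem_bot).mpr ((hπ y).mpr (hle ⟨y, hz, rfl⟩))
  have hC' : X' ⊓ centralizer ({π ⟨a, haM⟩} : Set (M ⧸ R.subgroupOf M)) ≤
      normalizer (P' : Set (M ⧸ R.subgroupOf M)) := by
    rintro z ⟨⟨x, hx, rfl⟩, hz⟩
    have hcomm : Commute (π ⟨a, haM⟩) (π x) := (mem_centralizer_singleton_iff.mp hz).symm
    have hmem : ∀ y ∈ zpowers a, y * (x : G) * y⁻¹ * (x : G)⁻¹ ∈ R := by
      intro y hy
      obtain ⟨k, rfl⟩ := mem_zpowers_iff.mp hy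
      have hw := (hπ ((⟨a, haM⟩ : M) ^ k * x * ((⟨a, haM⟩ : M) ^ k)⁻¹ * x⁻¹)).mp (by
        simp only [map_mul, map_inv, map_zpow]
        rw [(hcomm.zpow_left k).eq]
        group)
      simpa using hw
    obtain ⟨n, hn, hc⟩ := exists_fixed_in_coset_of_normal (zpowers a) R (zpowers_le.mpr haM)
      ((orderOf_zpowers_coprime ha hpX).coprime_dvd_right (card_dvd_of_le hRX))
      (Or.inl inferInstance) (x : G) x.2 hmem
    rw [centralizer_zpowers] at hc
    have hxn : π x = π (x * ⟨n, le_normalizer hn⟩) := by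
      rw [map_mul, (hπ ⟨n, le_normalizer hn⟩).mpr hn, mul_one]
    show π x ∈ normalizer (P' : Set (M ⧸ R.subgroupOf M))
    rw [hxn]
    exact hconj P _ (hCP ⟨mul_mem hx (hRX hn), hc⟩)
  have h := commutator_eq_bot_of_pCoreOf_eq_bot X' P' (by
      rintro h1 h2 _ ⟨y, hy, rfl⟩ _ ⟨y', hy', rfl⟩
      rw [← map_mul, ← map_mul]
      exact congrArg π (Subtype.ext (hexc h1 h2 y hy y' hy'))) hX'sol (π ⟨a, haM⟩) hā
    (hconj X _ haX) (fun hd => hpX (hd.trans hX'c)) (map_mono fun y hy => hPX hy)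
    ((hP.of_equiv (subgroupOfEquivOfLe hPM).symm).map π) (hconj P _ haP) hC' hO
  refine commutator_le.mpr fun x hx y hy => ?_
  obtain ⟨k, rfl⟩ := mem_zpowers_iff.mp hy
  have := (hπ ⁅(⟨x, hPM hx⟩ : M), (⟨a, haM⟩ : M) ^ k⁆).mp (by
    rw [map_commutatorElement, map_zpow, ← mem_bot, ← h]
    exact commutator_mem_commutator ⟨_, hx, rfl⟩ (zpow_mem (mem_zpowers _) k))
  simpa [commutatorElement_def] using this

/-- **Flavell's lemma.** -/
theorem commutator_le_pCoreOf {p q : ℕ} [hp : Fact p.Prime] [hq : Fact q.Prime]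
    (hexc : q = 2 → ¬ ∃ m, p = 2 ^ m + 1) (X P : Subgroup G) (hX : Group.IsSolvable X) (a : G)
    (ha : a ^ p = 1) (haX : a ∈ normalizer (X : Set G)) (hpX : ¬ p ∣ Nat.card X) (hPX : P ≤ X)
    (hP : IsPGroup q P) (haP : a ∈ normalizer (P : Set G))
    (hCP : X ⊓ centralizer ({a} : Set G) ≤ normalizer (P : Set G)) :
    ⁅P, zpowers a⁆ ≤ pCoreOf q X :=
  commutator_le_pCoreOf' X P (fun h1 h2 => absurd h2 (hexc h1)) hX a ha haX hpX hPX hP haP hCP

end Cfsg.Agent.SFT45
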