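import Cfsg.Agent.SFT45.Prune
import Cfsg.Agent.Lib.Thompson.WSubgroup
import Cfsg.Agent.Lib.Thompson.Stable

/-!
The solvable signalizer functor theorem for functors all of whose values have odd order.
-/

set_option autoImplicit false
set_option linter.style.haveILetI false
set_option maxHeartbeats 400000

universe u

namespace Cfsg.Agent.SFT45

open Subgroup Coprime Signal38
open scoped commutatorElement IsMulCommutative Pointwise

variable {G : Type u} [Group G] [Finite G]

/-- `⁅O_r(M), a⁆`. -/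
def wComm (r : ℕ) (M : Subgroup G) (a : G) : Subgroup G := ⁅pCoreOf r M, zpowers a⁆

/-- Maximal members containing `θ a`. -/
def IsMaxAbove (p : ℕ) (A : Subgroup G) (θ : G → Subgroup G) (a : G) (M : Subgroup G) : Prop :=
  M ∈ signalizerFamily p A θ ∧ θ a ≤ M ∧ ∀ U ∈ signalizerFamily p A θ, M ≤ U → U = M

variable {p : ℕ} [hp : Fact p.Prime] {A : Subgroup G} {θ : G → Subgroup G}

namespace IsMinBad

variable (hm : IsMinBad p A θ)
include hm

omit hp in
theorem exists_maxAbove_ge {a : G} {U : Subgroup G} (hU : U ∈ signalizerFamily p A θ)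
    (haU : θ a ≤ U) : ∃ M, U ≤ M ∧ IsMaxAbove p A θ a M := by
  obtain ⟨M, hUM, hM⟩ := Set.Finite.exists_le_maximal (Set.toFinite (signalizerFamily p A θ)) hU
  exact ⟨M, hUM, hM.1, haU.trans hUM, fun V hV hle => le_antisymm (hM.2 hV hle) hle⟩

theorem maxAbove_ne_bot {a : G} {M : Subgroup G} (hM : IsMaxAbove p A θ a M) : M ≠ ⊥ := by
  intro h
  obtain ⟨b, hb, hb1, hne⟩ := hm.exists_ne_bot
  exact hne ((hM.2.2 _ (theta_mem_family hm.func hb hb1) (h.le.trans bot_le)).trans h)

theorem exists_wComm_ne_bot {a : G} (ha : a ∈ A) (ha1 : a ≠ 1) {M : Subgroup G}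
    (hM : IsMaxAbove p A θ a M) : ∃ r : ℕ, r.Prime ∧ wComm r M a ≠ ⊥ := by
  by_contra h
  push Not at h
  refine hm.false_of_centralizes ha ha1 hM.1 hM.2.1 hM.2.2 (hm.maxAbove_ne_bot hM) fun r hr => ?_
  rw [← centralizer_zpowers, ← commutator_eq_bot_iff_le_centralizer]
  exact h r hr

theorem wComm_mem {a : G} (ha : a ∈ A) {r : ℕ} {M : Subgroup G}
    (hM : M ∈ signalizerFamily p A θ) :
    wComm r M a ≤ pCoreOf r M ∧ wComm r M a ∈ signalizerFamily p A θ ∧
      ⁅wComm r M a, zpowers a⁆ = wComm r M a := by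
  haveI := hm.elem.1
  have hza : zpowers a ≤ A := zpowers_le.mpr ha
  have hAR : A ≤ normalizer (pCoreOf r M : Set G) :=
    (member_normalizer hM).trans normalizer_le_normalizer_pCoreOf
  have hAza : A ≤ normalizer (zpowers a : Set G) := by
    refine le_trans ?_ (centralizer_le_normalizer _)
    rw [centralizer_zpowers]
    exact le_centralizer_singleton hm.elem ha
  have hle : wComm r M a ≤ pCoreOf r M := Coprime.commutator_le_of_le_normalizer (hza.trans hAR)
  exact ⟨hle, family_of_le' hM (hle.trans pCoreOf_le) (le_normalizer_commutator hAR hAza),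
    Coprime.commutator_commutator_eq (zpowers a) (pCoreOf r M) (hza.trans hAR)
      (((hm.coprime hM).coprime_dvd_left (card_dvd_of_le hza)).coprime_dvd_right
        (card_dvd_of_le pCoreOf_le)) (Or.inl (Group.isSolvable_of_comm fun x y => mul_comm' x y))⟩

/-- Flavell's lemma for two members above `θ a`. -/
theorem wComm_le {a : G} (ha : a ∈ A) (ha1 : a ≠ 1) {r : ℕ} [Fact r.Prime] {M M' : Subgroup G}
    (hM : M ∈ signalizerFamily p A θ) (hM' : M' ∈ signalizerFamily p A θ) (haM : θ a ≤ M)
    (h : wComm r M a ≤ M') : wComm r M a ≤ wComm r M' a := by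
  obtain ⟨hle, hW, hWW⟩ := hm.wComm_mem ha (r := r) hM
  have hza : zpowers a ≤ A := zpowers_le.mpr ha
  have hθW : θ a ≤ normalizer (wComm r M a : Set G) := by
    refine le_normalizer_commutator (haM.trans le_normalizer_pCoreOf)
      (le_trans ?_ (centralizer_le_normalizer _))
    rw [centralizer_zpowers]
    exact hm.func.1.1 a ha ha1
  have hq : IsPGroup r (wComm r M a) := isPGroup_pCoreOf.to_le hle
  have h1 : ⁅wComm r M a, zpowers a⁆ ≤ pCoreOf r M' :=
    hm.commutator_le_core hM' ha h hq (member_normalizer hW ha)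
      (le_trans (fun x hx => hM'.2.2.2 a ha ha1 hx) hθW)
  rw [hWW] at h1
  rw [← hWW]
  exact commutator_mono h1 le_rfl

theorem wComm_le_bigK {a : G} (ha : a ∈ A) (ha1 : a ≠ 1) {r : ℕ} [Fact r.Prime] {M : Subgroup G}
    (hM : M ∈ signalizerFamily p A θ) (haM : θ a ≤ M) : wComm r M a ≤ bigK p r A θ :=
  hm.commutator_le_bigK (family_of_le' hM pCoreOf_le
    ((member_normalizer hM).trans normalizer_le_normalizer_pCoreOf)) isPGroup_pCoreOf ha ha1
    (haM.trans le_normalizer_pCoreOf)

/-- A maximal member above `θ a` such that every member containing all its `⁅O_r, a⁆` has the same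
ones. -/
theorem exists_best {a : G} (ha : a ∈ A) (ha1 : a ≠ 1) :
    ∃ M, IsMaxAbove p A θ a M ∧ ∀ M', IsMaxAbove p A θ a M' →
      (∀ r : ℕ, r.Prime → wComm r M a ≤ M') → ∀ r : ℕ, r.Prime → wComm r M' a = wComm r M a := by
  classical
  let w : Subgroup G → ℕ := fun M => ∑ r ∈ (Nat.card G).primeFactors, Nat.card (wComm r M a)
  haveI := Fintype.ofFinite (Subgroup G)
  obtain ⟨M, hM, hmax⟩ := Finset.exists_max_image (Finset.univ.filter (IsMaxAbove p A θ a)) w
    (by
      obtain ⟨M, -, hM⟩ := hm.exists_maxAbove_ge (theta_mem_family hm.func ha ha1) (le_refl (θ a))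
      exact ⟨M, Finset.mem_filter.mpr ⟨Finset.mem_univ _, hM⟩⟩)
  have hM' := (Finset.mem_filter.mp hM).2
  refine ⟨M, hM', fun M' h' hle r hr => ?_⟩
  have hFL : ∀ s : ℕ, s.Prime → wComm s M a ≤ wComm s M' a := fun s hs =>
    haveI := Fact.mk hs
    hm.wComm_le ha ha1 hM'.1 h'.1 hM'.2.1 (hle s hs)
  by_cases hd : r ∣ Nat.card G
  · have hsum : w M = w M' := le_antisymm
      (Finset.sum_le_sum fun s hs => card_le_of_le (hFL s (Nat.prime_of_mem_primeFactors hs)))
      (hmax M' (Finset.mem_filter.mpr ⟨Finset.mem_univ _, h'⟩))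
    have heq := (Finset.sum_eq_sum_iff_of_le fun s hs =>
      card_le_of_le (hFL s (Nat.prime_of_mem_primeFactors hs))).mp hsum r
      (Nat.mem_primeFactors.mpr ⟨hr, hd, Nat.card_pos.ne'⟩)
    exact (eq_of_le_of_card_ge (hFL r hr) heq.ge).symm
  · haveI := Fact.mk hr
    have hbot : ∀ X : Subgroup G, wComm r X a = ⊥ := fun X => by
      obtain ⟨n, hn⟩ := IsPGroup.iff_card.mp (isPGroup_pCoreOf (q := r) (H := X))
      have h0 : pCoreOf r X = ⊥ := by
        refine eq_bot_of_card_le _ ?_
        rcases Nat.eq_zero_or_pos n with rfl | h0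
        · rw [hn, pow_zero]
        · exact absurd ((dvd_pow_self r h0.ne').trans
            (hn ▸ card_subgroup_dvd_card (pCoreOf r X))) hd
      rw [wComm, h0, commutator_bot_left]
    rw [hbot, hbot]

variable {q : ℕ} [hq : Fact q.Prime]

/-- The case of a further nontrivial core. -/
theorem bigK_le_of_core {a : G} (ha : a ∈ A) (ha1 : a ≠ 1) {M : Subgroup G}
    (hM : IsMaxAbove p A θ a M) {s : ℕ} [Fact s.Prime] (hsq : s ≠ q) (hR : pCoreOf s M ≠ ⊥)
    (hRa : pCoreOf s M ≤ centralizer ({a} : Set G)) {W : Subgroup G} (hWM : W ≤ pCoreOf q M)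
    (hWne : W ≠ ⊥) (hW : W ∈ signalizerFamily p A θ) (hWK : W ≤ bigK p q A θ)
    (hN : ∀ U ∈ signalizerFamily p A θ, U ≤ normalizer (W : Set G) → U ≤ M) :
    bigK p q A θ ≤ M := by
  have hMA := member_normalizer hM.1
  have hAR : A ≤ normalizer (pCoreOf s M : Set G) := hMA.trans normalizer_le_normalizer_pCoreOf
  have hRfam : pCoreOf s M ∈ signalizerFamily p A θ := family_of_le' hM.1 pCoreOf_le hAR
  have hRK : pCoreOf s M ≤ centralizer (bigK p q A θ : Set G) := by
    refine le_of_forall_hyp_mem hm.elem ha hAR (family_coprime hRfam) hRa fun B hB haB => ?_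
    set X := pCoreOf s M ⊓ centralizer (B : Set G) with hX
    have hXfam : X ∈ signalizerFamily p A θ := family_of_le' hRfam inf_le_left
      (Coprime.le_normalizer_inf hAR (le_normalizer_centralizer_of_le hm.elem hB.1))
    set P := ⨆ f : {f : G // f ∈ B ∧ f ≠ 1}, pCoreOf q (θ (f : G)) with hP
    obtain ⟨Q, hQ⟩ := hm.exists_isMaxQ (q := q)
    have hPQ : P ≤ Q := iSup_le fun f => hm.core_le_isMaxQ hQ (hB.1 f.2.1) f.2.2
    have hPfam : P ∈ signalizerFamily p A θ := family_of_le' hQ.1.1 hPQ (le_normalizer_iSup fun f =>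
      (member_normalizer (theta_mem_family hm.func (hB.1 f.2.1) f.2.2)).trans
        normalizer_le_normalizer_pCoreOf)
    have hKP : bigK p q A θ ≤ P := iSup_le fun B' => by
      obtain ⟨f, hf, hf', hf1⟩ := exists_mem_inf hm.elem hm.rank hB B'.2
      exact (delta_le hf' hf1).trans
        (le_iSup (fun f : {f : G // f ∈ B ∧ f ≠ 1} => pCoreOf q (θ (f : G))) ⟨f, hf, hf1⟩)
    have hPne : P ≠ ⊥ := fun h => hWne (le_bot_iff.mp ((hWK.trans hKP).trans h.le))
    obtain ⟨H, hH, hHP, hHmax⟩ := hm.exists_normalizer_member hPfam hPne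
    have hXP : X ≤ normalizer (P : Set G) := by
      refine le_trans (inf_centralizer_le_signalizerInf hRfam hB.1) (le_normalizer_iSup fun f => ?_)
      exact (signalizerInf_le f.2.1 f.2.2).trans le_normalizer_pCoreOf
    have hXH : X ≤ H := hHmax X hXfam hXP
    have hPH : P ≤ H := hHmax P hPfam le_normalizer
    set J := pCoreOf q H with hJ
    have hPJ : P ≤ J := le_pCoreOf hPH hHP (hQ.1.2.to_le hPQ)
    have hXJ : X ≤ centralizer (J : Set G) := by
      refine Coprime.thompson_pxq q W X J (isPGroup_pCoreOf.to_le hWM) ?_ isPGroup_pCoreOf ?_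
        (((hWK.trans hKP).trans hPJ).trans le_normalizer) (hXH.trans le_normalizer_pCoreOf) ?_
      · obtain ⟨n, hn⟩ := IsPGroup.iff_card.mp
          (isPGroup_pCoreOf.to_le (inf_le_left : X ≤ pCoreOf s M))
        rw [hn]
        exact ((Nat.coprime_primes Fact.out hq.out).mpr hsq).pow_left n
      · refine le_trans hWM (le_trans ?_ (centralizer_le (inf_le_left : X ≤ pCoreOf s M)))
        exact le_centralizer_of_coprime (pCoreOf_le.trans le_normalizer_pCoreOf)
          (pCoreOf_le.trans le_normalizer_pCoreOf)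
          (coprime_of_isPGroup hsq.symm isPGroup_pCoreOf isPGroup_pCoreOf)
      · set U := J ⊓ centralizer (W : Set G) with hU
        have hAJ : A ≤ normalizer (J : Set G) :=
          (member_normalizer hH).trans normalizer_le_normalizer_pCoreOf
        have hUfam : U ∈ signalizerFamily p A θ := family_of_le' hH (inf_le_left.trans pCoreOf_le)
          (Coprime.le_normalizer_inf hAJ (Coprime.le_normalizer_centralizer (member_normalizer hW)))
        have hUM : U ≤ M := hN U hUfam (inf_le_right.trans (centralizer_le_normalizer _))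
        rw [le_centralizer_iff, ← commutator_eq_bot_iff_le_centralizer, eq_bot_iff,
          ← inf_eq_bot_of_coprime (coprime_of_isPGroup hsq (isPGroup_pCoreOf (q := s) (H := M))
            (isPGroup_pCoreOf (q := q) (H := H)))]
        refine le_inf ?_ ?_
        · exact (commutator_mono inf_le_left le_rfl).trans (Coprime.commutator_le_of_le_normalizer
            (hUM.trans le_normalizer_pCoreOf))
        · rw [commutator_comm]
          exact (commutator_mono inf_le_left le_rfl).trans (Coprime.commutator_le_of_le_normalizer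
            (hXH.trans le_normalizer_pCoreOf))
    exact hXJ.trans (centralizer_le (hKP.trans hPJ))
  obtain ⟨N, hN', hNn, hNmax⟩ := hm.exists_normalizer_member hRfam hR
  have hMN : M ≤ N := hNmax M hM.1 le_normalizer_pCoreOf
  rw [← hM.2.2 N hN' hMN]
  exact hNmax _ hm.bigK_mem_family.1 ((le_centralizer_iff.mp hRK).trans (centralizer_le_normalizer _))

/-- The case of a Fitting subgroup of prime power order. -/
theorem bigK_le_of_fitting {a : G} {M : Subgroup G}
    (hM : IsMaxAbove p A θ a M) (hR : ∀ s : ℕ, s.Prime → s ≠ q → pCoreOf s M = ⊥)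
    (hO : pCoreOf q M ≠ ⊥) : bigK p q A θ ≤ M := by
  have hMA := member_normalizer hM.1
  have hodd := hm.member_odd hM.1
  haveI := hM.1.1
  have hqd : q ∣ Nat.card M := by
    obtain ⟨n, hn⟩ := IsPGroup.iff_card.mp (isPGroup_pCoreOf (q := q) (H := M))
    refine dvd_trans ?_ (hn ▸ card_dvd_of_le (pCoreOf_le (q := q) (H := M)))
    exact dvd_pow_self _ fun h0 => hO (eq_bot_of_card_le _ (by rw [hn, h0, pow_zero]))
  have h2 : ¬ 2 ∣ Nat.card M := fun h => (Nat.not_even_iff_odd.mpr hodd) (even_iff_two_dvd.mpr h)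
  have hq2 : q ≠ 2 := fun h => h2 (h ▸ hqd)
  have hst : IsActionPStable q M := Thompson.isActionPStable_of_abelian_sylow_two hq2 fun T => by
    haveI := Fact.mk Nat.prime_two
    have : Subsingleton (T : Subgroup M) := by
      obtain ⟨n, hn⟩ := IsPGroup.iff_card.mp T.isPGroup'
      suffices h1 : Nat.card (T : Subgroup M) = 1 from (Nat.card_eq_one_iff_unique.mp h1).1
      rcases Nat.eq_zero_or_pos n with rfl | h0
      · rw [hn, pow_zero]
      · exact absurd ((dvd_pow_self 2 h0.ne').trans
          (hn ▸ card_subgroup_dvd_card (T : Subgroup M))) h2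
    exact ⟨⟨fun x y => Subsingleton.elim _ _⟩⟩
  have hc : centralizer (pCore q M : Set M) ≤ pCore q M := by
    have hF : fittingSubgroup M ≤ pCore q M := by
      rw [Fitting.fitting_eq_iSup_pCore]
      refine iSup_le fun s => ?_
      rcases eq_or_ne (s : ℕ) q with h | h
      · rw [h]
      · rw [(map_eq_bot_iff_of_injective _ M.subtype_injective).mp (hR s s.2 h)]
        exact bot_le
    exact ((centralizer_le hF).trans Fitting.centralizer_fitting_le).trans hF
  obtain ⟨S, hS⟩ := Coprime.exists_invariant_sylow A M hMA (hm.coprime hM.1) (Or.inr hM.1.1) q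
  set S' := (S : Subgroup M).map M.subtype with hS'
  have hZn := Thompson.wOf_normal_of_stable hst hc S
  set Z := Thompson.wOf q S' with hZ
  have hSq : IsPGroup q S' := isPGroup_of_map_subtype S
  have hSne : S' ≠ ⊥ := by
    rw [hS', Ne, map_eq_bot_iff_of_injective _ M.subtype_injective]
    exact S.ne_bot_of_dvd_card hqd
  have hZfam : Z ∈ signalizerFamily p A θ :=
    family_of_le' hM.1 ((Thompson.wOf_le _).trans (map_subtype_le _))
      (hS.trans (Thompson.normalizer_le_normalizer_wOf _))
  have hMZ : M ≤ normalizer (Z : Set G) := by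
    have h1 : (Thompson.wOf q (S : Subgroup M)).map M.subtype = Z :=
      Thompson.wOf_map M.subtype _ M.subtype_injective.injOn
    rw [← h1]
    refine Coprime.le_normalizer_of_conj_mem fun x hx _ hy => ?_
    obtain ⟨y, hy', rfl⟩ := hy
    exact ⟨⟨x, hx⟩ * y * ⟨x, hx⟩⁻¹, hZn.conj_mem y hy' _, rfl⟩
  obtain ⟨N, hN, -, hNmax⟩ := hm.exists_normalizer_member hZfam (Thompson.wOf_ne_bot hSq hSne)
  have hNM : N = M := hM.2.2 N hN (hNmax M hM.1 hMZ)
  obtain ⟨Q, hSQ, hQ⟩ := exists_isMaxQ_ge (family_of_le' hM.1 (map_subtype_le _) hS) hSq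
  have hle : normalizer (S' : Set G) ⊓ Q ≤ S' := by
    have hfam : normalizer (S' : Set G) ⊓ Q ∈ signalizerFamily p A θ := family_of_le' hQ.1.1
      inf_le_right (Coprime.le_normalizer_inf (Coprime.le_normalizer_normalizer hS)
        (member_normalizer hQ.1.1))
    have hT : normalizer (S' : Set G) ⊓ Q ≤ M :=
      hNM ▸ hNmax _ hfam (inf_le_left.trans (Thompson.normalizer_le_normalizer_wOf _))
    have h := S.is_maximal' (Q := (normalizer (S' : Set G) ⊓ Q).subgroupOf M)
      (hQ.1.2.to_le inf_le_right).comap_subtype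
      (map_le_iff_le_comap.mp (le_inf le_normalizer hSQ))
    calc normalizer (S' : Set G) ⊓ Q
        ≤ ((normalizer (S' : Set G) ⊓ Q).subgroupOf M).map M.subtype := by
          rw [subgroupOf_map_subtype]
          exact le_inf le_rfl hT
      _ = S' := congrArg (Subgroup.map M.subtype) h
  have hSQeq : S' = Q := by
    by_contra hne
    exact normalizer_inf_not_le hQ.1.2 hSQ hne hle
  exact ((hm.bigK_le_isMaxQ hQ).trans hSQeq.ge).trans (map_subtype_le _)

end IsMinBad

end Cfsg.Agent.SFT45
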