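import Mathlib
import Cfsg.Prelude.Def_Amalgam
import Cfsg.Agent.Lib.Coprime.Generation
import Cfsg.Agent.Lib.Coprime.Hall
import Cfsg.Agent.Lib.Thompson.Cores

/-!
Tools for the solvable signalizer functor theorem: cores of subgroups and coprime generation of
commutator subgroups.
-/

set_option autoImplicit false
set_option linter.style.haveILetI false

namespace Cfsg.Agent.SFT45

open Subgroup Coprime
open scoped commutatorElement IsMulCommutative Pointwise

variable {G : Type*} [Group G]

theorem centralizer_zpowers (a : G) :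
    centralizer (zpowers a : Set G) = centralizer ({a} : Set G) := by
  rw [zpowers_eq_closure, centralizer_closure]

theorem le_normalizer_iSup {ι : Sort*} {X : Subgroup G} {f : ι → Subgroup G}
    (h : ∀ i, X ≤ normalizer (f i : Set G)) : X ≤ normalizer ((⨆ i, f i : Subgroup G) : Set G) := by
  refine Coprime.le_normalizer_of_conj_mem fun x hx y hy => ?_
  refine Subgroup.iSup_induction f (C := fun y => x * y * x⁻¹ ∈ ⨆ i, f i) hy
    (fun i z hz => mem_iSup_of_mem i (conj_mem_of_mem_normalizer (h i hx) hz)) (by simp) ?_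
  intro y z hy hz
  simpa [mul_assoc] using mul_mem hy hz

theorem le_normalizer_commutator {X H K : Subgroup G} (hH : X ≤ normalizer (H : Set G))
    (hK : X ≤ normalizer (K : Set G)) : X ≤ normalizer ((⁅H, K⁆ : Subgroup G) : Set G) := by
  refine Coprime.le_normalizer_of_conj_mem fun x hx y hy => ?_
  refine (commutator_le.mpr fun u hu v hv => ?_ :
    ⁅H, K⁆ ≤ (⁅H, K⁆ : Subgroup G).comap (MulAut.conj x).toMonoidHom) hy
  show x * ⁅u, v⁆ * x⁻¹ ∈ ⁅H, K⁆
  rw [show x * ⁅u, v⁆ * x⁻¹ = ⁅x * u * x⁻¹, x * v * x⁻¹⁆ by simp [commutatorElement_def, mul_assoc]]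
  exact commutator_mem_commutator (conj_mem_of_mem_normalizer (hH hx) hu)
    (conj_mem_of_mem_normalizer (hK hx) hv)

/-- Mutually normalizing subgroups of coprime order commute. -/
theorem le_centralizer_of_coprime {X Y : Subgroup G} (hXY : X ≤ normalizer (Y : Set G))
    (hYX : Y ≤ normalizer (X : Set G)) (h : (Nat.card X).Coprime (Nat.card Y)) :
    X ≤ centralizer (Y : Set G) := by
  rw [← commutator_eq_bot_iff_le_centralizer, eq_bot_iff, ← inf_eq_bot_of_coprime h]
  exact le_inf (Coprime.commutator_le_of_le_normalizer hYX)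
    (by rw [commutator_comm]; exact Coprime.commutator_le_of_le_normalizer hXY)

theorem zpowers_le_centralizer_iff {a : G} {H : Subgroup G} :
    zpowers a ≤ centralizer (H : Set G) ↔ H ≤ centralizer ({a} : Set G) := by
  rw [le_centralizer_iff, centralizer_zpowers]

section PCoreOf

variable {q : ℕ} {H : Subgroup G}

theorem pCoreOf_le : pCoreOf q H ≤ H := map_subtype_le _

theorem isPGroup_pCoreOf [Finite G] [Fact q.Prime] : IsPGroup q (pCoreOf q H) :=
  Thompson.isPGroup_pCore.map _

theorem normalizer_le_normalizer_pCoreOf :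
    normalizer (H : Set G) ≤ normalizer (pCoreOf q H : Set G) :=
  Coprime.normalizer_le_normalizer_map H _

theorem le_normalizer_pCoreOf : H ≤ normalizer (pCoreOf q H : Set G) :=
  le_normalizer.trans normalizer_le_normalizer_pCoreOf

theorem le_pCoreOf {N : Subgroup G} (hN : N ≤ H) (hn : H ≤ normalizer (N : Set G))
    (hq : IsPGroup q N) : N ≤ pCoreOf q H := by
  rw [← map_subgroupOf_eq_of_le hN]
  exact map_mono (Thompson.le_pCore ((normal_subgroupOf_iff_le_normalizer hN).mpr hn)
    (hq.of_equiv (subgroupOfEquivOfLe hN).symm))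

end PCoreOf

/-- Commutators with a power of `a` lie in an `a`-invariant subgroup containing those with `a`. -/
theorem commutator_pow_mem {H : Subgroup G} {a k : G} (haH : a ∈ normalizer (H : Set G))
    (hk : ⁅k, a⁆ ∈ H) : ∀ n : ℕ, ⁅k, a ^ n⁆ ∈ H
  | 0 => by simp
  | n + 1 => by
    rw [show ⁅k, a ^ (n + 1)⁆ = ⁅k, a⁆ * (a * ⁅k, a ^ n⁆ * a⁻¹) by
      simp [commutatorElement_def, pow_succ', mul_assoc]]
    exact mul_mem hk (conj_mem_of_mem_normalizer haH (commutator_pow_mem haH hk n))

theorem commutator_zpowers_le [Finite G] {H K : Subgroup G} {a : G}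
    (haH : a ∈ normalizer (H : Set G)) (hk : ∀ k ∈ K, ⁅k, a⁆ ∈ H) : ⁅K, zpowers a⁆ ≤ H := by
  refine commutator_le.mpr fun k hkK y hy => ?_
  obtain ⟨n, rfl⟩ := mem_powers_iff_mem_zpowers.mpr hy
  exact commutator_pow_mem haH (hk k hkK) n

/-- `⁅K, a⁆` is generated by the `⁅C_K(B), a⁆` as soon as every invariant subgroup of `K` is
generated by its intersections with the pieces `C i`. -/
theorem commutator_le_of_pieces [Finite G] {ι : Type*} (A : Subgroup G) [IsMulCommutative A]
    {a : G} (ha : a ∈ A) (C : ι → Subgroup G) (hCA : ∀ i, A ≤ normalizer (C i : Set G))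
    (K L : Subgroup G) (hAK : A ≤ normalizer (K : Set G))
    (hcop : (Nat.card A).Coprime (Nat.card K)) (hsolv : Group.IsSolvable K)
    (hgen : ∀ D ≤ K, A ≤ normalizer (D : Set G) → ∀ H : Subgroup G,
      (∀ i, D ⊓ C i ≤ H) → D ≤ H)
    (hL : ∀ i, ⁅K ⊓ C i, zpowers a⁆ ≤ L) : ⁅K, zpowers a⁆ ≤ L := by
  induction hc : Nat.card K using Nat.strong_induction_on generalizing K L with
  | _ c IH =>
  rcases eq_or_ne K ⊥ with rfl | hne
  · rw [commutator_bot_left]
    exact bot_le
  have hza : zpowers a ≤ A := zpowers_le.mpr ha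
  set L' : Subgroup G := ⨆ i, ⁅K ⊓ C i, zpowers a⁆ with hL'd
  refine le_trans ?_ (iSup_le hL : L' ≤ L)
  have hAza : A ≤ normalizer (zpowers a : Set G) := by
    refine le_trans ?_ (centralizer_le_normalizer _)
    rw [centralizer_zpowers]
    exact fun x hx => mem_centralizer_singleton_iff.mpr
      (congrArg Subtype.val (mul_comm' (⟨x, hx⟩ : A) ⟨a, ha⟩))
  have hAL' : A ≤ normalizer (L' : Set G) :=
    le_normalizer_iSup fun i => le_normalizer_commutator (Coprime.le_normalizer_inf hAK (hCA i)) hAza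
  have hKa : zpowers a ≤ normalizer (K : Set G) := hza.trans hAK
  set D : Subgroup G := ⁅K, K⁆ with hD
  have hDK : D ≤ K := commutator_le_self K
  have hAD : A ≤ normalizer (D : Set G) := le_normalizer_commutator hAK hAK
  have hDne : D ≠ K := by
    intro h
    haveI := hsolv
    have hne' : (⊤ : Subgroup K) ≠ ⊥ := fun h' => hne (by
      simpa [← MonoidHom.range_eq_map] using congrArg (Subgroup.map K.subtype) h')
    refine (Group.IsSolvable.commutator_lt_of_ne_bot hne').ne ?_
    apply Subgroup.map_injective K.subtype_injective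
    rw [Subgroup.map_commutator]
    simpa [← MonoidHom.range_eq_map] using h
  have hDlt : Nat.card D < c := by
    rw [← hc]
    exact lt_of_le_of_ne (Subgroup.card_le_of_le hDK)
      fun he => hDne (eq_of_le_of_card_ge hDK he.ge)
  have hDL : ⁅D, zpowers a⁆ ≤ L' := IH _ hDlt D L' hAD (hcop.coprime_dvd_right (card_dvd_of_le hDK))
    (Coprime.solvable_of_le hDK hsolv) (fun E hE hAE H hH => hgen E (hE.trans hDK) hAE H hH)
    (fun i => le_iSup_of_le i (commutator_mono (inf_le_inf_right _ hDK) le_rfl)) rfl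
  have hL'K : L' ≤ K := iSup_le fun i =>
    (commutator_mono inf_le_left le_rfl).trans (Coprime.commutator_le_of_le_normalizer hKa)
  set H : Subgroup G := L' ⊔ D with hH
  have hHK : H ≤ K := sup_le hL'K hDK
  have hKH : K ≤ normalizer (H : Set G) := Coprime.le_normalizer_of_conj_mem fun k hk h hh => by
    rw [show k * h * k⁻¹ = ⁅k, h⁆ * h by simp [commutatorElement_def]]
    exact mul_mem (mem_sup_right (commutator_mem_commutator hk (hHK hh))) hh
  have haH : a ∈ normalizer (H : Set G) := Coprime.le_normalizer_sup hAL' hAD ha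
  let K0 : Subgroup G :=
    { carrier := {k | k ∈ K ∧ ⁅k, a⁆ ∈ H}
      one_mem' := ⟨one_mem _, by simp⟩
      mul_mem' := by
        rintro x y ⟨hx, hx'⟩ ⟨hy, hy'⟩
        refine ⟨mul_mem hx hy, ?_⟩
        rw [show ⁅x * y, a⁆ = (x * ⁅y, a⁆ * x⁻¹) * ⁅x, a⁆ by simp [commutatorElement_def, mul_assoc]]
        exact mul_mem (conj_mem_of_mem_normalizer (hKH hx) hy') hx'
      inv_mem' := by
        rintro x ⟨hx, hx'⟩
        refine ⟨inv_mem hx, ?_⟩
        rw [show ⁅x⁻¹, a⁆ = x⁻¹ * ⁅x, a⁆⁻¹ * x⁻¹⁻¹ by simp [commutatorElement_def, mul_assoc]]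
        exact conj_mem_of_mem_normalizer (hKH (inv_mem hx)) (inv_mem hx') }
  have hK0 : K ≤ K0 := hgen K le_rfl hAK K0 fun i x hx => ⟨(mem_inf.mp hx).1, mem_sup_left
    (mem_iSup_of_mem i (commutator_mem_commutator hx (mem_zpowers a)))⟩
  set U : Subgroup G := ⁅K, zpowers a⁆ with hU
  have hUH : U ≤ H := commutator_zpowers_le haH fun k hk => (hK0 hk).2
  have hUK : U ≤ K := Coprime.commutator_le_of_le_normalizer hKa
  have hL'U : L' ≤ U := iSup_le fun i => commutator_mono inf_le_left le_rfl
  have haU : zpowers a ≤ normalizer (U : Set G) := le_normalizer_commutator hKa le_normalizer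
  have hcop' : (Nat.card (zpowers a)).Coprime (Nat.card K) :=
    hcop.coprime_dvd_left (card_dvd_of_le hza)
  have hUU : ⁅U, zpowers a⁆ = U :=
    Coprime.commutator_commutator_eq (zpowers a) K hKa hcop' (Or.inr hsolv)
  have hL'D : L' ≤ normalizer (D : Set G) :=
    hL'K.trans (le_normalizer_commutator le_normalizer le_normalizer)
  refine le_trans hUU.ge (commutator_zpowers_le (hAL' ha) fun x hx => ?_)
  obtain ⟨l, hl, d, hd, rfl⟩ : ∃ l ∈ L', ∃ d ∈ D, l * d = x := by
    have hmem : x ∈ (L' : Set G) * (D : Set G) := by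
      rw [← coe_mul_of_left_le_normalizer_right L' D hL'D]
      exact hUH hx
    exact Set.mem_mul.mp hmem
  have hdU : d ∈ U ⊓ D := ⟨by simpa using mul_mem (inv_mem (hL'U hl)) hx, hd⟩
  obtain ⟨u, hu, v, hv, rfl⟩ := Coprime.exists_commutator_mul_centralizer (zpowers a) (U ⊓ D)
    (Coprime.le_normalizer_inf haU (hza.trans hAD))
    (hcop'.coprime_dvd_right (card_dvd_of_le (inf_le_left.trans hUK)))
    (Or.inr (Coprime.solvable_of_le (inf_le_left.trans hUK) hsolv)) d hdU
  have hu' : u ∈ L' := hDL (commutator_mono inf_le_right le_rfl hu)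
  have hva : v * a = a * v :=
    (mem_centralizer_iff.mp (mem_inf.mp hv).2 a (mem_zpowers a)).symm
  have h2 : ⁅l * (u * v), a⁆ = ⁅l * u, a⁆ := by
    have hv' : v * a * v⁻¹ = a := by rw [hva]; simp
    calc ⁅l * (u * v), a⁆ = l * u * (v * a * v⁻¹) * (l * u)⁻¹ * a⁻¹ := by
          simp [commutatorElement_def, mul_assoc]
      _ = _ := by rw [hv']; simp [commutatorElement_def, mul_assoc]
  rw [h2, show ⁅l * u, a⁆ = (l * u) * (a * (l * u)⁻¹ * a⁻¹) by
    simp [commutatorElement_def, mul_assoc]]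
  exact mul_mem (mul_mem hl hu') (conj_mem_of_mem_normalizer (hAL' ha) (inv_mem (mul_mem hl hu')))

end Cfsg.Agent.SFT45
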